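import Cfsg.Agent.Lib.MonsterFischer52.Lattice

/-!
The action of the centraliser of the coded permutation on the classes of fixed vectors, computed on
lists and carried by the images of the twelve basis classes.

Owner: helper52.
-/

set_option autoImplicit false

namespace Cfsg.Agent.Lib.MonsterFischer52

open Cfsg Cfsg.Agent.Lib.Leech Cfsg.Agent.Lib.Golay Cfsg.Agent.Lib.Co3Model
open Cfsg.Agent.Lib.Computation (getW mulP)
open Cfsg.Agent.Lib.MonsterLocal52 (Eqv inLeechL vecL mem_of_inLeechL dotL dotInt_eq_dotL axL
  lv_eightE wordElt_append wordElt_cons wordElt_single)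

/-! ### coded classes -/

/-- The class with a given code. -/
def vecC (c : ℕ) : LatData.V12 := fun j => bif c.testBit j.val then 1 else 0

/-- Lifting of residues. -/
def lift (x : LatData.V12) : Fin 12 → ℤ := fun j => ((x j).val : ℤ)

theorem red_lift (x : LatData.V12) : LatData.red (lift x) = x := by
  funext j
  simp [LatData.red, lift]

theorem vecC_xor (a b : ℕ) : vecC (a ^^^ b) = vecC a + vecC b := by
  funext j
  simp only [vecC, Nat.testBit_xor, Pi.add_apply]
  cases a.testBit j.val <;> cases b.testBit j.val <;> rfl

theorem vecC_zero : vecC 0 = 0 := by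
  funext j
  simp [vecC]

theorem vecC_injOn {a b : ℕ} (ha : a < 4096) (hb : b < 4096) (h : vecC a = vecC b) : a = b := by
  refine Nat.eq_of_testBit_eq fun i => ?_
  by_cases hi : i < 12
  · have e := congrFun h ⟨i, hi⟩
    simp only [vecC] at e
    cases ha' : a.testBit i <;> cases hb' : b.testBit i <;> simp [ha', hb'] at e ⊢
  · have h12 : ∀ c < 4096, c.testBit i = false := fun c hc =>
      Nat.testBit_lt_two_pow (lt_of_lt_of_le hc (Nat.pow_le_pow_right two_pos (not_lt.mp hi)))
    rw [h12 a ha, h12 b hb]

theorem exists_code (x : LatData.V12) : ∃ c < 4096, x = vecC c := by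
  have key : ∀ n ≤ 12, ∃ c < 2 ^ n, ∀ j : Fin 12, j.val < n → x j = vecC c j := by
    intro n
    induction n with
    | zero => exact fun _ => ⟨0, by norm_num, fun j hj => absurd hj (Nat.not_lt_zero _)⟩
    | succ n ih =>
      intro hn
      obtain ⟨c, hc, he⟩ := ih (by omega)
      obtain ⟨c', hc', hbit⟩ : ∃ c' < 2 ^ (n + 1), ∀ i, i ≤ n →
          c'.testBit i = (if i = n then decide (x ⟨n, by omega⟩ = 1) else c.testBit i) := by
        by_cases hx : x ⟨n, by omega⟩ = 1
        · refine ⟨2 ^ n + c, by rw [pow_succ]; omega, fun i hi => ?_⟩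
          split_ifs with e
          · subst e
            rw [Nat.testBit_two_pow_add_eq, Nat.testBit_lt_two_pow hc, hx]
            rfl
          · rw [Nat.testBit_two_pow_add_gt (by omega)]
        · refine ⟨c, by rw [pow_succ]; omega, fun i hi => ?_⟩
          split_ifs with e
          · subst e
            rw [Nat.testBit_lt_two_pow hc, decide_eq_false hx]
          · rfl
      refine ⟨c', hc', fun j hj => ?_⟩
      simp only [vecC, hbit j.val (by omega)]
      split_ifs with e
      · rw [show j = ⟨n, by omega⟩ from Fin.ext e]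
        rcases (by decide : ∀ a : ZMod 2, a = 0 ∨ a = 1) (x ⟨n, by omega⟩) with h | h <;> simp [h]
      · exact he j (by omega)
  obtain ⟨c, hc, he⟩ := key 12 le_rfl
  exact ⟨c, hc, funext fun j => he j j.isLt⟩

/-- The linear map given by the images of the basis classes. -/
def appC (cols : List ℕ) (c : ℕ) : ℕ :=
  (List.range 12).foldr (fun i m => bif c.testBit i then cols.getD i 0 ^^^ m else m) 0

theorem appC_unit : ∀ c < 4096,
    appC [1, 2, 4, 8, 16, 32, 64, 128, 256, 512, 1024, 2048] c = c := by
  have h : ∀ a < 64, ∀ b < 64,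
      appC [1, 2, 4, 8, 16, 32, 64, 128, 256, 512, 1024, 2048] (64 * a + b) = 64 * a + b := by
    decide +kernel
  intro c hc
  have e := h (c / 64) (by omega) (c % 64) (by omega)
  rwa [Nat.div_add_mod] at e

namespace LatData

variable {D : LatData} (h : D.ok = true)

/-- The permutation as a primitive. -/
def opR (D : LatData) : Op := .perm D.r D.r'

include h in
theorem opR_ok : D.opR.ok = true := by
  simp only [ok, Bool.and_eq_true] at h
  exact h.1.1.1.1.1

theorem elt_opR : D.opR.elt = π h := by
  simp only [opR, Op.elt, dif_pos (show (Op.perm D.r D.r').ok = true from opR_ok h)]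
  rfl

/-- The word commutes with the permutation. -/
def centW (D : LatData) (w : List Op) : Bool :=
  w.all Op.ok &&
    (List.range 24).all fun k =>
      decide (appWord (w ++ [D.opR]) (axL k) = appWord (D.opR :: w) (axL k))

/-- The centraliser of the permutation. -/
noncomputable def CC : Subgroup Co0 := Subgroup.centralizer {π h}

theorem mem_CC {g : Co0} : g ∈ CC h ↔ g * π h = π h * g :=
  Subgroup.mem_centralizer_singleton_iff

theorem mem_of_centW {w : List Op} (hw : D.centW w = true) :
    wordElt w ∈ CC h ∧ w.all Op.ok = true := by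
  simp only [centW, Bool.and_eq_true, List.all_eq_true, List.mem_range, decide_eq_true_eq] at hw
  obtain ⟨hw, hax⟩ := hw
  refine ⟨(mem_CC h).mpr (co0_ext fun q => lv_injective ?_), List.all_eq_true.mpr hw⟩
  have ho : D.opR.ok = true := opR_ok h
  have h1 : (w ++ [D.opR]).all Op.ok = true := by
    simp only [List.all_append, List.all_cons, List.all_nil, Bool.and_true, Bool.and_eq_true,
      List.all_eq_true]
    exact ⟨hw, ho⟩
  have h2 : (D.opR :: w).all Op.ok = true := by
    simp only [List.all_cons, Bool.and_eq_true, List.all_eq_true]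
    exact ⟨ho, hw⟩
  have e2 := lv_word h1 (eightE q)
  have e3 := lv_word h2 (eightE q)
  rw [wordElt_append, wordElt_single, elt_opR h] at e2
  rw [wordElt_cons, elt_opR h] at e3
  rw [e2, e3, lv_eightE]
  exact hax _ (idx_lt q)

/-- The action on classes. -/
noncomputable def actV (g : Co0) (x : V12) : V12 := red (D.parOf (vec (g • val h (lift x))))

theorem fixed_smul {g : Co0} (hg : g ∈ CC h) (P : Fin 12 → ℤ) :
    π h • (g • val h P) = g • val h P := by
  rw [← mul_smul, ← (mem_CC h).mp hg, mul_smul, val_fixed]

theorem exists_smul_val {g : Co0} (hg : g ∈ CC h) (P : Fin 12 → ℤ) :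
    ∃ R, g • val h P = val h R ∧ red R = actV h g (red P) := by
  obtain ⟨R, hR⟩ := exists_val h (fixed_smul h hg P)
  obtain ⟨S, hS⟩ := exists_val h (fixed_smul h hg (lift (red P)))
  refine ⟨R, hR, ?_⟩
  show red R = red (D.parOf (vec (g • val h (lift (red P)))))
  rw [hS, show D.parOf (vec (val h S)) = S from parOf_val h S, ← eqv_val_iff h, ← hR, ← hS]
  exact ((eqv_val_iff h).mpr (red_lift _).symm).smul g

theorem actV_eq {g : Co0} (hg : g ∈ CC h) {P R : Fin 12 → ℤ} (e : g • val h P = val h R) :
    actV h g (red P) = red R := by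
  obtain ⟨R', h1, h2⟩ := exists_smul_val h hg P
  rw [← h2, val_injective h (h1.symm.trans e)]

theorem actV_add {g : Co0} (hg : g ∈ CC h) (x y : V12) :
    actV h g (x + y) = actV h g x + actV h g y := by
  obtain ⟨R, hR, hR'⟩ := exists_smul_val h hg (lift x)
  obtain ⟨S, hS, hS'⟩ := exists_smul_val h hg (lift y)
  rw [red_lift] at hR' hS'
  have := actV_eq h hg (P := lift x + lift y) (R := R + S)
    (by rw [val_add, smul_add', hR, hS, val_add])
  rwa [red_add, red_lift, red_lift, red_add, hR', hS'] at this

theorem actV_mul {g k : Co0} (hg : g ∈ CC h) (hk : k ∈ CC h) (x : V12) :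
    actV h (g * k) x = actV h g (actV h k x) := by
  obtain ⟨R, hR, hR'⟩ := exists_smul_val h hk (lift x)
  obtain ⟨S, hS, hS'⟩ := exists_smul_val h hg R
  rw [red_lift] at hR'
  have := actV_eq h (mul_mem hg hk) (P := lift x) (R := S) (by rw [mul_smul, hR, hS])
  rwa [red_lift, hS', hR'] at this

theorem actV_one (x : V12) : actV h 1 x = x := by
  have := actV_eq h (g := 1) (one_mem _) (P := lift x) (R := lift x) (one_smul _ _)
  rwa [red_lift] at this

theorem actV_zero {g : Co0} (hg : g ∈ CC h) : actV h g 0 = 0 := by
  have := actV_add h hg 0 0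
  rw [add_zero] at this
  exact left_eq_add.mp this

theorem actV_injective {g : Co0} (hg : g ∈ CC h) : Function.Injective (actV h g) := fun x y e => by
  rw [← actV_one h x, ← actV_one h y, ← inv_mul_cancel g, actV_mul h (inv_mem hg) hg,
    actV_mul h (inv_mem hg) hg, e]

theorem π_mem : π h ∈ CC h := (mem_CC h).mpr rfl

theorem negOne_mem : negOne ∈ CC h :=
  (mem_CC h).mpr (Subgroup.mem_center_iff.mp negOne_mem_center (π h)).symm

theorem actV_π (x : V12) : actV h (π h) x = x := by
  have := actV_eq h (π_mem h) (P := lift x) (R := lift x) (val_fixed h _)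
  rwa [red_lift] at this

theorem red_neg (P : Fin 12 → ℤ) : red (-P) = red P := by
  funext j
  simp [red, ZMod.neg_eq_self_mod_two]

theorem actV_negOne (x : V12) : actV h negOne x = x := by
  have := actV_eq h (negOne_mem h) (P := lift x) (R := -lift x) (by rw [negOne_smul, val_neg])
  rwa [red_lift, red_neg, red_lift] at this

/-- The linear map of an element on coded classes. -/
def HasCols (g : Co0) (cols : List ℕ) : Prop :=
  ∀ c < 4096, actV h g (vecC c) = vecC (appC cols c)

/-- The images of the basis classes under a word. -/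
def colsOK (D : LatData) (w : List Op) (cols : List ℕ) : Bool :=
  (List.finRange 12).all fun i =>
    let L := appWord w (D.basL i)
    Nat.blt (cols.getD i.val 0) 4096 &&
      (List.finRange 12).all fun j =>
        decide (dotL (D.dual.getD j.val []) L / 8 % 2 = 1) == (cols.getD i.val 0).testBit j.val

theorem lv_val_unit (i : Fin 12) : lv (val h (lift (vecC (2 ^ i.val)))) = D.basL i := by
  refine lv_eq_map fun k hk => ?_
  have hL : lift (vecC (2 ^ i.val)) = Pi.single i 1 := by
    funext j
    simp only [lift, vecC, Nat.testBit_two_pow, Pi.single_apply]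
    by_cases e : j = i
    · subst e; simp; rfl
    · have e' : ¬ i.val = j.val := fun e' => e (Fin.ext e'.symm)
      simp [e, e']
  show D.valF _ (pt k) = _
  simp only [valF, hL, Pi.single_apply, ite_mul, one_mul, zero_mul, Finset.sum_ite_eq',
    Finset.mem_univ, if_true]
  rw [slotF_val h, idx_pt hk]

theorem hasCols {w : List Op} {cols : List ℕ} (hw : D.centW w = true)
    (hc : D.colsOK w cols = true) : HasCols h (wordElt w) cols := by
  obtain ⟨hm, hok⟩ := mem_of_centW h hw
  simp only [colsOK, List.all_eq_true, Bool.and_eq_true, Nat.blt_eq, beq_iff_eq] at hc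
  have hunit : ∀ i : Fin 12,
      actV h (wordElt w) (vecC (2 ^ i.val)) = vecC (cols.getD i.val 0) := fun i => by
    funext j
    have e := (hc i (List.mem_finRange i)).2 j (List.mem_finRange j)
    simp only [actV, red, parOf]
    rw [show D.dualF j = vecL (D.dual.getD j.val []) from rfl, dotInt_eq_dotL, lv_word hok,
      lv_val_unit h i]
    simp only [vecC]
    rw [← e]
    generalize dotL (D.dual.getD j.val []) (appWord w (D.basL i)) / 8 = t
    rcases Int.emod_two_eq_zero_or_one t with ht | ht
    · rw [decide_eq_false (by omega), cond_false]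
      exact (ZMod.intCast_zmod_eq_zero_iff_dvd t 2).mpr (Int.dvd_of_emod_eq_zero ht)
    · rw [decide_eq_true ht, cond_true, show t = 2 * (t / 2) + 1 by omega]
      push_cast
      rw [show ((2 : ZMod 2)) = 0 from rfl, zero_mul, zero_add]
  intro c hc'
  have key : ∀ l : List ℕ, (∀ i ∈ l, i < 12) →
      actV h (wordElt w) (vecC (l.foldr (fun i m => bif c.testBit i then
        [1, 2, 4, 8, 16, 32, 64, 128, 256, 512, 1024, 2048].getD i 0 ^^^ m else m) 0)) =
      vecC (l.foldr (fun i m => bif c.testBit i then cols.getD i 0 ^^^ m else m) 0) := by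
    intro l
    induction l with
    | nil => intro _; simp only [List.foldr_nil]; rw [vecC_zero, actV_zero h hm]
    | cons a l ih =>
      intro hl
      have ih' := ih fun i hi => hl i (List.mem_cons_of_mem _ hi)
      simp only [List.foldr_cons]
      cases c.testBit a
      · exact ih'
      · have ha := hl a (List.mem_cons_self ..)
        have e : [1, 2, 4, 8, 16, 32, 64, 128, 256, 512, 1024, 2048].getD a 0 = 2 ^ a :=
          (by decide : ∀ a < 12, [1, 2, 4, 8, 16, 32, 64, 128, 256, 512, 1024, 2048].getD a 0 = 2 ^ a) a ha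
        simp only [cond_true]
        rw [vecC_xor, actV_add h hm, ih', vecC_xor, e, hunit ⟨a, ha⟩]
  have h2 := key (List.range 12) fun i hi => List.mem_range.1 hi
  rw [show (List.range 12).foldr _ 0 = c from appC_unit c hc'] at h2
  exact h2

/-- The coordinates of a vector with given parameters. -/
def valL (D : LatData) (P : Fin 12 → ℤ) : List ℤ :=
  (List.range 24).map fun i => ∑ j : Fin 12, P j * mEnt D.basis j.val (D.slot i)

theorem lv_valL (P : Fin 12 → ℤ) : lv (val h P) = D.valL P := lv_eq_map fun i hi => by
  show D.valF P (pt i) = _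
  simp only [valF, slotF_val h, idx_pt hi]

/-- The squared length of a list. -/
def sqL (L : List ℤ) : ℤ := (L.map fun x => x ^ 2).sum

theorem sqNorm_eq (v : leechLattice) : sqNorm (vec v) = sqL (lv v) := by
  rw [sqNorm, sum_pts, sqL, lv, List.map_map]
  rfl

end LatData

end Cfsg.Agent.Lib.MonsterFischer52
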