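import Cfsg.Agent.Lib.MonsterFischer52.Data
import Cfsg.Agent.Lib.MonsterFischer52.Chains

/-!
The kernel checks on the coded data for the fixed lattice, its classes and the objects.

Owner: helper52.
-/

set_option autoImplicit false
set_option maxRecDepth 20000

namespace Cfsg.Agent.Lib.MonsterFischer52.Model

open Cfsg Cfsg.Agent.Lib.Leech Cfsg.Agent.Lib.Golay Cfsg.Agent.Lib.Co3Model
open Cfsg.Agent.Lib.Computation (getW okPerm permRep mulP)
open Cfsg.Agent.Lib.MonsterLocal52 (axL inLeechL)

/-- The class of a member of an object. -/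
def oc (i : Fin 126) (k : Fin 3) : ℕ := getW 12 objT (3 * i.val + k.val)

/-- The class is marked. -/
def isNode (c : ℕ) : Bool := nodeB.testBit c

/-- The parameters of a short vector. -/
def parS (P : List ℤ) : Fin 12 → ℤ := fun j => P.getD j.val 0

/-- A generator. -/
def gen (g : Fin 6) : List Op × List ℕ × ℕ := gens.getD g.val ([], [], 0)

/-- The parent of a class. -/
def par1 (c : ℕ) : ℕ := getW 24 parT c % 4096

/-- The generator leading from the parent to the class. -/
def parG (c : ℕ) : Fin 6 := ⟨getW 24 parT c / 4096 % 16 % 6, Nat.mod_lt _ (by norm_num)⟩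

/-- The depth of a class. -/
def parD (c : ℕ) : ℕ := getW 24 parT c / 65536

/-- A class is marked, or has a short vector, or comes from an earlier class. -/
def coverCase (c : ℕ) : Bool :=
  isNode c || bif Nat.beq (parD c) 0 then
    shortReps.any fun e => Nat.beq e.1 c &&
      (List.finRange 12).all (fun j => decide (parS e.2 j % 2 = 1) == c.testBit j.val) &&
      decide (LatData.sqL (lat.valL (parS e.2)) < 64)
  else
    !isNode (par1 c) && Nat.blt (parD (par1 c)) (parD c) && Nat.beq c (appC (gen (parG c)).2.1 (par1 c))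

theorem lat_ok : lat.ok = true := by decide +kernel

theorem oc_ok : ∀ i : Fin 126, ∀ k : Fin 3, oc i k < 4096 ∧ getW 8 labT (oc i k) = i.val + 1 := by
  decide +kernel

theorem node_count : ((List.range 4096).filter isNode).length = 1701 := by decide +kernel

theorem cover_ok : ∀ a < 64, ∀ b < 64, coverCase (64 * a + b) = true := by decide +kernel

theorem root_ok : k0 < 24 ∧ s0 < 4096 ∧ axL k0 =
    lat.valL (fun j => dotInt (lat.dualF j) (Cfsg.Agent.Lib.MonsterLocal52.vecL (axL k0)) / 8) := by
  decide +kernel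

theorem root_red : ∀ j : Fin 12, decide (dotInt (lat.dualF j)
    (Cfsg.Agent.Lib.MonsterLocal52.vecL (axL k0)) / 8 % 2 = 1) = s0.testBit j.val := by
  decide +kernel

theorem fix_ok : ((List.range 4096).all fun k =>
    !((List.range 24).all fun i => (enc k).testBit (getW 5 lat.r i) == (enc k).testBit i) ||
      flips.any fun e => Nat.beq (enc k) e) = true := by
  decide +kernel

theorem flips_length : flips.length = 64 := by decide +kernel

theorem pow_ok : ∀ i < 24, getW 5 lat.r (getW 5 lat.r (getW 5 lat.r i)) = i := by decide +kernel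

theorem gen_word_ok : ∀ g : Fin 6,
    lat.centW (gen g).1 = true ∧ lat.colsOK (gen g).1 (gen g).2.1 = true := by
  decide +kernel

theorem gen_move_ok : ∀ g : Fin 6, okPerm 126 7 (gen g).2.2 = true ∧
    ∀ i : Fin 126, ∀ k : Fin 3, ∃ h : getW 7 (gen g).2.2 i.val < 126,
      ∃ l : Fin 3, appC (gen g).2.1 (oc i k) = oc ⟨_, h⟩ l := by
  decide +kernel

theorem obj_gens_eq : obj_gens = [(gen 0).2.2, (gen 1).2.2, (gen 2).2.2] := by decide +kernel

theorem gen_triv : ∀ g : Fin 6, 4 ≤ g.val → ∀ i : Fin 126, getW 7 (gen g).2.2 i.val = i.val := by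
  decide +kernel

theorem half_triv : ∀ i : Fin 126, getW 7 (gen 3).2.2 (getW 7 (gen 3).2.2 i.val) = i.val := by
  decide +kernel

theorem ker_gens : (gen 4).1 = [.sign 16777215] ∧ (gen 5).1 = [lat.opR] := by
  exact ⟨rfl, rfl⟩

/-- The square of the fourth generator on codes. -/
def appO (c : ℕ) : ℕ := appC (gen 3).2.1 (appC (gen 3).2.1 c)

theorem omega_moves : (∃ c : Fin 12, appO (2 ^ c.val) ≠ 2 ^ c.val) ∧
    (∃ c : Fin 12, appO (appO (2 ^ c.val)) ≠ 2 ^ c.val) := by
  decide +kernel

end Cfsg.Agent.Lib.MonsterFischer52.Model
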