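import Cfsg.Agent.Lib.MonsterFischer52.Checks
import Cfsg.Agent.Lib.LeechMod2.Frame
import Cfsg.Agent.Lib.M24Classes.Centralizers
import Cfsg.Agent.Lib.MonsterLocal52.Decomp

/-!
An upper bound for the centraliser of the coded permutation: the classes with a vector of squared
length 64 and the stabiliser of an axis class.

Owner: helper52.
-/

set_option autoImplicit false
set_option maxRecDepth 20000

namespace Cfsg.Agent.Lib.MonsterFischer52.Model

open Cfsg Cfsg.Agent.Lib.Leech Cfsg.Agent.Lib.Golay Cfsg.Agent.Lib.Co3Model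
open Cfsg.Agent.Lib.Computation (getW)
open Cfsg.Agent.Lib.MonsterLocal52 (Eqv vecL axL lv_eightE eq_or_neg_of_small)
open Cfsg.Agent.Lib.LeechMod2

/-- The centraliser of the permutation. -/
noncomputable abbrev CC : Subgroup Co0 := LatData.CC lat_ok

/-- The permutation as a lattice automorphism. -/
noncomputable abbrev π0 : Co0 := LatData.π lat_ok

/-- The action on classes. -/
noncomputable abbrev act (g : Co0) (x : LatData.V12) : LatData.V12 := LatData.actV lat_ok g x

theorem gen_mem (g : Fin 6) : wordElt (gen g).1 ∈ CC :=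
  (LatData.mem_of_centW lat_ok (gen_word_ok g).1).1

theorem gen_cols (g : Fin 6) : LatData.HasCols lat_ok (wordElt (gen g).1) (gen g).2.1 :=
  LatData.hasCols lat_ok (gen_word_ok g).1 (gen_word_ok g).2

/-- The parities of parameters. -/
theorem red_of_bits {P : Fin 12 → ℤ} {c : ℕ}
    (h : ∀ j : Fin 12, decide (P j % 2 = 1) = c.testBit j.val) :
    LatData.red P = vecC c := by
  funext j
  simp only [LatData.red, vecC, ← h j]
  generalize P j = t
  rcases Int.emod_two_eq_zero_or_one t with ht | ht
  · rw [decide_eq_false (by omega), cond_false]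
    exact (ZMod.intCast_zmod_eq_zero_iff_dvd t 2).mpr (Int.dvd_of_emod_eq_zero ht)
  · rw [decide_eq_true ht, cond_true, show t = 2 * (t / 2) + 1 by omega]
    push_cast
    rw [show ((2 : ZMod 2)) = 0 from rfl, zero_mul, zero_add]

/-- The classes without a mark contain vectors of squared length less than 64. -/
theorem exists_short : ∀ c < 4096, isNode c = false →
    ∃ P, LatData.red P = vecC c ∧ sqNorm (vec (LatData.val lat_ok P)) < 64 := by
  suffices H : ∀ d, ∀ c < 4096, parD c = d → isNode c = false →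
      ∃ P, LatData.red P = vecC c ∧ sqNorm (vec (LatData.val lat_ok P)) < 64 from
    fun c hc => H _ c hc rfl
  intro d
  induction d using Nat.strong_induction_on with
  | _ d ih =>
    intro c hc hd hn
    have h := cover_ok (c / 64) (by omega) (c % 64) (by omega)
    rw [Nat.div_add_mod] at h
    simp only [coverCase, hn, Bool.false_or] at h
    by_cases h0 : parD c = 0
    · rw [h0, Nat.beq_refl, cond_true] at h
      simp only [List.any_eq_true, Bool.and_eq_true, Nat.beq_eq, List.all_eq_true, beq_iff_eq,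
        decide_eq_true_eq] at h
      obtain ⟨e, -, ⟨-, hbit⟩, hn'⟩ := h
      refine ⟨parS e.2, red_of_bits fun j => hbit j (List.mem_finRange j), ?_⟩
      rw [LatData.sqNorm_eq, LatData.lv_valL]
      exact hn'
    · rw [show Nat.beq (parD c) 0 = false from
        Bool.eq_false_iff.mpr fun e0 => h0 (Nat.eq_of_beq_eq_true e0), cond_false] at h
      simp only [Bool.and_eq_true, Bool.not_eq_true', Nat.blt_eq, Nat.beq_eq] at h
      obtain ⟨⟨hp, hlt⟩, he⟩ := h
      have hp' : par1 c < 4096 := Nat.mod_lt _ (by norm_num)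
      obtain ⟨P, hP, hPn⟩ := ih _ (hd ▸ hlt) _ hp' rfl hp
      obtain ⟨R, hR, hR'⟩ := LatData.exists_smul_val lat_ok (gen_mem (parG c)) P
      refine ⟨R, ?_, ?_⟩
      · rw [hR', hP, gen_cols (parG c) _ hp', ← he]
      · rw [← hR, norm_smul']
        exact hPn

/-- The marked classes are the ones with a vector of squared length 64. -/
theorem node_of_norm {v : leechLattice} (hv : sqNorm (vec v) = 64) {R : Fin 12 → ℤ}
    (he : Eqv v (LatData.val lat_ok R)) :
    ∃ c ∈ (List.range 4096).filter isNode, LatData.red R = vecC c := by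
  obtain ⟨c, hc, hcR⟩ := exists_code (LatData.red R)
  refine ⟨c, List.mem_filter.mpr ⟨List.mem_range.mpr hc, ?_⟩, hcR⟩
  by_contra hn
  obtain ⟨P, hP, hPn⟩ := exists_short c hc (Bool.eq_false_iff.mpr hn)
  have he' := he.trans ((LatData.eqv_val_iff lat_ok).mpr (hcR.trans hP.symm))
  rcases eq_or_neg_of_small he' (by rw [hv]; omega) with e | e
  · rw [e] at hv; omega
  · rw [e] at hv
    simp only [vec, AddSubgroup.coe_neg, sqNorm_neg] at hv hPn
    omega

/-- The axis is a fixed vector in the basic class. -/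
theorem axis_root : Eqv (eightE (pt k0)) (LatData.val lat_ok (lift (vecC s0))) := by
  obtain ⟨hk, hs, hax⟩ := root_ok
  have e : eightE (pt k0) =
      LatData.val lat_ok (fun j => dotInt (lat.dualF j) (vecL (axL k0)) / 8) := lv_injective (by
    rw [lv_eightE, idx_pt hk, LatData.lv_valL]; exact hax)
  rw [e]
  exact (LatData.eqv_val_iff lat_ok).mpr (by rw [red_lift]; exact red_of_bits root_red)

/-- A listed flip. -/
noncomputable def flipE (i : Fin 64) : Co0 := (Op.sign (flips.getD i.val 0)).elt

/-- The sign part commuting with the permutation is a listed flip. -/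
theorem exists_flip {d : Co0} (hd : d ∈ Frame.diag) (hc : d * π0 = π0 * d) :
    ∃ i, d = flipE i := by
  obtain ⟨c, hcc, rfl⟩ := Frame.mem_diag_iff.mp hd
  obtain ⟨k, hk, rfl⟩ := mem_supports_iff.mp hcc
  have hinv : ∀ q : GolayPt, (q ∈ setOfMask (enc k)) ↔
      ((LatData.σ lat_ok : Equiv.Perm GolayPt) q ∈ setOfMask (enc k)) := by
    intro q
    have h1 : Leech.flip (setOfMask (enc k)) hcc • (π0 • eightE q) =
        π0 • (Leech.flip (setOfMask (enc k)) hcc • eightE q) := by
      rw [← mul_smul, hc, mul_smul]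
    have h2 := congrArg (fun v => vec v ((LatData.σ lat_ok : Equiv.Perm GolayPt) q)) h1
    simp only [π0, LatData.π] at h2
    rw [permHom_eightE, flip_smul, permHom_apply, Equiv.symm_apply_apply, flip_smul] at h2
    simp only [eightE, vec, Pi.single_eq_same] at h2
    by_cases a1 : q ∈ setOfMask (enc k) <;>
      by_cases a2 : (LatData.σ lat_ok : Equiv.Perm GolayPt) q ∈ setOfMask (enc k) <;>
      simp only [a1, a2, if_true, if_false] at h2 ⊢ <;> omega
  have hall : ((List.range 24).all fun i =>
      (enc k).testBit (getW 5 lat.r i) == (enc k).testBit i) = true := by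
    simp only [List.all_eq_true, List.mem_range, beq_iff_eq]
    intro i hi
    have h1 := hinv (pt i)
    rw [show (LatData.σ lat_ok : Equiv.Perm GolayPt) = gperm lat.r from rfl] at h1
    simp only [mem_setOfMask, idx_gperm (LatData.okCode_r lat_ok), idx_pt hi] at h1
    exact Bool.eq_iff_iff.mpr h1.symm
  have hf := fix_ok
  simp only [List.all_eq_true, List.mem_range] at hf
  have h := hf k hk
  rw [List.all_eq_true.mpr (fun i hi => List.all_eq_true.mp hall i hi), Bool.not_true,
    Bool.false_or, List.any_eq_true] at h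
  obtain ⟨e, he, hee⟩ := h
  obtain ⟨i, hi, rfl⟩ := List.getElem_of_mem he
  refine ⟨⟨i, flips_length ▸ hi⟩, ?_⟩
  rw [flipE, List.getD_eq_getElem?_getD, List.getElem?_eq_getElem hi, Option.getD_some,
    ← Nat.eq_of_beq_eq_true hee]
  simp only [Op.elt, dif_pos (inCode_enc hk)]

/-- The monomial stabiliser. -/
noncomputable def monoE (p : Fin 64 × M24Classes.Centralizers.cent (gperm M24Classes.Data.r6)) :
    Co0 :=
  flipE p.1 * permHom ⟨p.2.1, (M24Classes.Centralizers.mem_cent.mp p.2.2).1⟩

/-- An element fixing the basic class is a product of a listed flip and a centralising permutation. -/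
theorem exists_mono {h : Co0} (hh : h ∈ CC) (hfix : act h (vecC s0) = vecC s0) :
    ∃ p, h = monoE p := by
  obtain ⟨R, hR, hR'⟩ := LatData.exists_smul_val lat_ok hh (lift (vecC s0))
  rw [red_lift, show LatData.actV lat_ok h (vecC s0) = _ from hfix] at hR'
  have hv : Eqv (LatData.val lat_ok R) (LatData.val lat_ok (lift (vecC s0))) :=
    (LatData.eqv_val_iff lat_ok).mpr (by rw [hR', red_lift])
  have hax : Eqv (h • eightE (pt k0)) (eightE (pt k0)) :=
    (((axis_root.smul h).trans (hR ▸ Eqv.rfl' _)).trans hv).trans axis_root.symm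
  obtain ⟨t, ht⟩ := hax.symm
  obtain ⟨j, hj⟩ := eight_congr (i := pt k0) (w := h • eightE (pt k0)) (z := t)
    (by rw [norm_smul', sqNorm_eightE]) (by rw [two_zsmul, ← ht])
  obtain ⟨d, hd, τ, rfl⟩ := Frame.exists_split (axis_of_one (i := pt k0) hj)
  have hc : d * permHom τ * π0 = π0 * (d * permHom τ) := (LatData.mem_CC lat_ok).mp hh
  obtain ⟨s, hs⟩ : ∃ x, x = LatData.σ lat_ok := ⟨_, rfl⟩
  obtain ⟨p₀, hp₀⟩ : ∃ x, x = π0 := ⟨_, rfl⟩
  have hps : p₀ = permHom s := by rw [hp₀, hs]; rfl
  rw [← hp₀] at hc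
  have e0 : permHom (τ * s * τ⁻¹ * s⁻¹) = d⁻¹ * (p₀ * d * p₀⁻¹) := by
    rw [map_mul, map_mul, map_mul, map_inv, map_inv, ← hps]
    calc permHom τ * p₀ * (permHom τ)⁻¹ * p₀⁻¹
        = d⁻¹ * (d * permHom τ * p₀) * (permHom τ)⁻¹ * p₀⁻¹ := by group
      _ = d⁻¹ * (p₀ * (d * permHom τ)) * (permHom τ)⁻¹ * p₀⁻¹ := by rw [hc]
      _ = _ := by group
  have hmem : permHom (τ * s * τ⁻¹ * s⁻¹) ∈ Frame.diag := by
    rw [e0]
    exact mul_mem (inv_mem hd) (Frame.cross_conj_diag (hps ▸ Frame.permHom_mem_cross s) hd)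
  have h1 := Frame.eq_one_of_permHom_mem_diag hmem
  have hτ : τ * s = s * τ := by
    rw [mul_inv_eq_one, mul_inv_eq_iff_eq_mul] at h1
    exact h1
  have hdπ : d * p₀ = p₀ * d := by
    rw [h1, map_one] at e0
    have e1 : p₀ * d * p₀⁻¹ = d := by
      calc p₀ * d * p₀⁻¹ = d * (d⁻¹ * (p₀ * d * p₀⁻¹)) := by group
        _ = d := by rw [← e0, mul_one]
    exact (mul_inv_eq_iff_eq_mul.mp e1).symm
  obtain ⟨i, hi⟩ := exists_flip hd (hp₀ ▸ hdπ)
  refine ⟨(i, ⟨τ, M24Classes.Centralizers.mem_cent.mpr ⟨τ.2, ?_⟩⟩), by rw [monoE, hi]⟩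
  have := congrArg Subtype.val hτ
  rw [hs] at this
  exact this

/-- The centraliser acts on the classes. -/
@[reducible] noncomputable def clsAction : MulAction CC LatData.V12 where
  smul g x := act (g : Co0) x
  one_smul x := LatData.actV_one lat_ok x
  mul_smul g k x := LatData.actV_mul lat_ok g.2 k.2 x

/-- The order of the centraliser is at most `1701 * 64 * 1080`. -/
theorem card_CC_le : Nat.card CC ≤ 117573120 := by
  letI := clsAction
  haveI : Finite Co0 := Nat.finite_of_card_ne_zero (by rw [card_co0]; omega)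
  classical
  have horb : MulAction.orbit CC (vecC s0) ⊆
      ((((List.range 4096).filter isNode).toFinset.image vecC : Finset LatData.V12) :
        Set LatData.V12) := by
    rintro _ ⟨g, rfl⟩
    obtain ⟨R, hR, hR'⟩ := LatData.exists_smul_val lat_ok g.2 (lift (vecC s0))
    rw [red_lift] at hR'
    obtain ⟨c, hc, hcR⟩ := node_of_norm (v := (g : Co0) • eightE (pt k0))
      (by rw [norm_smul', sqNorm_eightE]) (R := R) (hR ▸ axis_root.smul (g : Co0))
    simp only [Finset.coe_image, Set.mem_image, List.coe_toFinset, Set.mem_setOf_eq]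
    exact ⟨c, hc, hcR.symm.trans hR'⟩
  have h1 : (MulAction.orbit CC (vecC s0)).ncard ≤ 1701 := by
    refine (Set.ncard_le_ncard horb (Finset.finite_toSet _)).trans ?_
    rw [Set.ncard_coe_finset]
    exact Finset.card_image_le.trans ((List.toFinset_card_le _).trans node_count.le)
  have h2 : Nat.card (MulAction.stabilizer CC (vecC s0)) ≤ 69120 := by
    have hex : ∀ h : MulAction.stabilizer CC (vecC s0), ∃ p, ((h : CC) : Co0) = monoE p :=
      fun h => exists_mono (h : CC).2 (MulAction.mem_stabilizer_iff.mp h.2)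
    choose f hf using hex
    refine (Nat.card_le_card_of_injective f fun a b e => ?_).trans ?_
    · exact Subtype.ext (Subtype.ext (by rw [hf a, hf b, e]))
    · rw [Nat.card_prod, Nat.card_fin, M24Classes.Centralizers.card_cent6]
  have h := (MulAction.stabilizer CC (vecC s0)).card_mul_index
  rw [MulAction.index_stabilizer] at h
  rw [← h]
  calc _ ≤ 69120 * 1701 := Nat.mul_le_mul h2 h1
    _ = 117573120 := by norm_num

end Cfsg.Agent.Lib.MonsterFischer52.Model
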