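import Cfsg.Agent.Lib.MonsterFischer52.Count

/-!
The centraliser of the coded permutation on the 126 objects: its image has order 6531840 and its
kernel consists of eighteen elements, the powers of the element without fixed points, of the sign
and of the permutation.

Owner: helper52.
-/

set_option autoImplicit false
set_option maxRecDepth 20000

namespace Cfsg.Agent.Lib.MonsterFischer52.Model

open Cfsg Cfsg.Agent.Lib.Leech Cfsg.Agent.Lib.Golay Cfsg.Agent.Lib.Co3Model
open Cfsg.Agent.Lib.Computation (getW okPerm decodeP decodeP_apply permRep)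

/-- An element induces a map of the objects. -/
def Moves (g : Co0) (f : Fin 126 → Fin 126) : Prop :=
  ∀ i : Fin 126, ∀ k : Fin 3, ∃ l : Fin 3, act g (vecC (oc i k)) = vecC (oc (f i) l)

theorem moves_one : Moves 1 id := fun _ k => ⟨k, LatData.actV_one lat_ok _⟩

theorem moves_mul {g k : Co0} (hg : g ∈ CC) (hk : k ∈ CC) {f f' : Fin 126 → Fin 126}
    (h1 : Moves g f) (h2 : Moves k f') : Moves (g * k) (f ∘ f') := by
  intro i a
  obtain ⟨b, hb⟩ := h2 i a
  obtain ⟨c, hc⟩ := h1 (f' i) b
  refine ⟨c, ?_⟩
  show LatData.actV lat_ok (g * k) _ = _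
  rw [LatData.actV_mul lat_ok hg hk, show LatData.actV lat_ok k _ = _ from hb]
  exact hc

theorem moves_unique {g : Co0} {f f' : Fin 126 → Fin 126} (h1 : Moves g f) (h2 : Moves g f') :
    f = f' := by
  funext i
  obtain ⟨a, ha⟩ := h1 i 0
  obtain ⟨b, hb⟩ := h2 i 0
  have e := vecC_injOn (oc_ok (f i) a).1 (oc_ok (f' i) b).1 (ha.symm.trans hb)
  have e1 := (oc_ok (f i) a).2
  rw [e, (oc_ok (f' i) b).2] at e1
  exact Fin.ext (by omega)

/-- The coded permutation of a generator. -/
noncomputable def genP (g : Fin 6) : Equiv.Perm (Fin 126) := decodeP 126 7 (gen g).2.2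

/-- The generators. -/
noncomputable def genE (g : Fin 6) : Co0 := wordElt (gen g).1

theorem genE_moves (g : Fin 6) : Moves (genE g) (genP g) := by
  intro i k
  obtain ⟨hi, l, hl⟩ := (gen_move_ok g).2 i k
  refine ⟨l, ?_⟩
  rw [show genP g i = ⟨_, hi⟩ from Fin.ext (decodeP_apply (gen_move_ok g).1 i), ← hl]
  exact gen_cols g _ (oc_ok i k).1

/-- The subgroup of the generators. -/
noncomputable def SS : Subgroup Co0 := Subgroup.closure (Set.range genE)

theorem SS_le : SS ≤ CC := by
  rw [SS, Subgroup.closure_le]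
  rintro _ ⟨g, rfl⟩
  exact gen_mem g

theorem finite_co0 : Finite Co0 := Nat.finite_of_card_ne_zero (by rw [card_co0]; omega)

theorem exists_moves {g : Co0} (hg : g ∈ SS) : ∃ f : Equiv.Perm (Fin 126), Moves g f := by
  haveI := finite_co0
  have hg' : g ∈ Submonoid.closure (Set.range genE) := by
    rw [← Subgroup.closure_toSubmonoid_of_finite]; exact hg
  have hle : ∀ x, x ∈ Submonoid.closure (Set.range genE) → x ∈ CC := fun x hx =>
    SS_le (by rw [SS, ← Subgroup.mem_toSubmonoid, Subgroup.closure_toSubmonoid_of_finite]; exact hx)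
  clear hg
  induction hg' using Submonoid.closure_induction with
  | mem x hx => obtain ⟨e, rfl⟩ := hx; exact ⟨_, genE_moves e⟩
  | one => exact ⟨1, moves_one⟩
  | mul x y hx hy ihx ihy =>
    obtain ⟨f, hf⟩ := ihx
    obtain ⟨f', hf'⟩ := ihy
    refine ⟨f * f', ?_⟩
    rw [Equiv.Perm.coe_mul]
    exact moves_mul (hle x hx) (hle y hy) hf hf'

/-- The permutation of an element. -/
noncomputable def movesPerm (g : SS) : Equiv.Perm (Fin 126) := Classical.choose (exists_moves g.2)

theorem movesPerm_eq (g : SS) {f : Equiv.Perm (Fin 126)} (hf : Moves g.1 f) : movesPerm g = f :=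
  Equiv.coe_fn_injective (moves_unique (Classical.choose_spec (exists_moves g.2)) hf)

/-- The action of the generated group on the objects. -/
noncomputable def phiS : SS →* Equiv.Perm (Fin 126) where
  toFun := movesPerm
  map_one' := movesPerm_eq 1 (by exact moves_one)
  map_mul' g k := movesPerm_eq (g * k) (by
    rw [Equiv.Perm.coe_mul]
    exact moves_mul (SS_le g.2) (SS_le k.2) (Classical.choose_spec (exists_moves g.2))
      (Classical.choose_spec (exists_moves k.2)))

theorem genE_mem (g : Fin 6) : genE g ∈ SS := Subgroup.subset_closure ⟨g, rfl⟩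

theorem phiS_gen (g : Fin 6) : phiS ⟨genE g, genE_mem g⟩ = genP g := movesPerm_eq _ (genE_moves g)

theorem phiS_eq_one_of_act {g : SS} (h : ∀ x, act (g : Co0) x = x) : phiS g = 1 :=
  movesPerm_eq g fun _ k => ⟨k, h _⟩

/-- The coded permutations. -/
noncomputable def objGrp : Subgroup (Equiv.Perm (Fin 126)) :=
  Subgroup.closure ((decodeP 126 7) '' {c | c ∈ obj_gens})

theorem card_objGrp : Nat.card objGrp = 6531840 := by
  have h := (permRep 126 7 (by decide)).card_closure obj_check
  have ho : (permRep 126 7 (by decide)).order obj_chain = 6531840 := by decide +kernel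
  rw [ho] at h
  exact h

theorem objGrp_le : objGrp ≤ phiS.range := by
  rw [objGrp, Subgroup.closure_le]
  rintro _ ⟨c, hc, rfl⟩
  have hc' : c ∈ obj_gens := hc
  rw [obj_gens_eq] at hc'
  simp only [List.mem_cons, List.not_mem_nil, or_false] at hc'
  rcases hc' with rfl | rfl | rfl <;> exact ⟨_, phiS_gen _⟩

theorem gen4 : genE 4 = negOne := by
  rw [genE, ker_gens.1, MonsterLocal52.wordElt_single, MonsterLocal52.sign_full]

theorem gen5 : genE 5 = π0 := by
  rw [genE, ker_gens.2, MonsterLocal52.wordElt_single]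
  exact LatData.elt_opR lat_ok

/-- The element without fixed points. -/
noncomputable def om : Co0 := genE 3 * genE 3

theorem om_mem : om ∈ SS := mul_mem (genE_mem 3) (genE_mem 3)

theorem negOne_mem : negOne ∈ SS := gen4 ▸ genE_mem 4

theorem π0_mem : π0 ∈ SS := gen5 ▸ genE_mem 5



theorem gen_cols_lt (g : Fin 6) (i : Fin 12) : (gen g).2.1.getD i.val 0 < 4096 := by
  have h := (gen_word_ok g).2
  simp only [LatData.colsOK, List.all_eq_true, Bool.and_eq_true, Nat.blt_eq] at h
  exact (h i (List.mem_finRange i)).1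

theorem appC_lt {cols : List ℕ} (h : ∀ i : Fin 12, cols.getD i.val 0 < 4096) (c : ℕ) :
    appC cols c < 4096 := by
  have key : ∀ l : List ℕ, (∀ i ∈ l, i < 12) →
      l.foldr (fun i m => bif c.testBit i then cols.getD i 0 ^^^ m else m) 0 < 4096 := by
    intro l
    induction l with
    | nil => intro _; norm_num
    | cons a l ih =>
      intro hl
      rw [List.foldr_cons]
      have ih' := ih fun i hi => hl i (List.mem_cons_of_mem _ hi)
      cases c.testBit a
      · exact ih'
      · exact Nat.xor_lt_two_pow (n := 12) (h ⟨a, hl a (List.mem_cons_self ..)⟩) ih'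
  exact key _ fun i hi => List.mem_range.1 hi

theorem appO_lt (c : ℕ) : appO c < 4096 := appC_lt (gen_cols_lt 3) _

theorem act_om {c : ℕ} (hc : c < 4096) : act om (vecC c) = vecC (appO c) := by
  show LatData.actV lat_ok (wordElt (gen 3).1 * wordElt (gen 3).1) _ = _
  rw [LatData.actV_mul lat_ok (gen_mem 3) (gen_mem 3),
    show LatData.actV lat_ok (wordElt (gen 3).1) (vecC c) = _ from gen_cols 3 c hc]
  exact gen_cols 3 _ (appC_lt (gen_cols_lt 3) c)

end Cfsg.Agent.Lib.MonsterFischer52.Model
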