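import Cfsg.Agent.Lib.MonsterFischer52.Group

/-!
The kernel of the action on the objects has eighteen elements, and the generators generate the
centraliser.

Owner: helper52.
-/

set_option autoImplicit false
set_option maxRecDepth 20000
set_option linter.style.haveILetI false
set_option maxHeartbeats 400000

namespace Cfsg.Agent.Lib.MonsterFischer52.Model

open Cfsg Cfsg.Agent.Lib.Leech Cfsg.Agent.Lib.Golay Cfsg.Agent.Lib.Co3Model
open Cfsg.Agent.Lib.Computation (getW okPerm decodeP decodeP_apply)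
open Cfsg.Agent.Lib.LeechMod2

attribute [local irreducible] genE phiS

theorem phiS_om : phiS ⟨om, om_mem⟩ = 1 := by
  rw [show (⟨om, om_mem⟩ : SS) = ⟨genE 3, genE_mem 3⟩ * ⟨genE 3, genE_mem 3⟩ from
    Subtype.ext (by rw [Subgroup.coe_mul]; exact om.eq_def), map_mul, phiS_gen]
  refine Equiv.ext fun i => Fin.ext ?_
  rw [Equiv.Perm.mul_apply, Equiv.Perm.one_apply, genP, decodeP_apply (gen_move_ok 3).1,
    decodeP_apply (gen_move_ok 3).1]
  exact half_triv i

theorem genP_triv {g : Fin 6} (hg : 4 ≤ g.val) : genP g = 1 :=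
  Equiv.ext fun i => Fin.ext (by
    rw [genP, decodeP_apply (gen_move_ok g).1, Equiv.Perm.one_apply]
    exact gen_triv g hg i)

theorem phiS_negOne : phiS ⟨negOne, negOne_mem⟩ = 1 := by
  have h : (⟨negOne, negOne_mem⟩ : SS) = ⟨genE 4, genE_mem 4⟩ := Subtype.ext gen4.symm
  rw [h, phiS_gen, genP_triv (by norm_num)]

theorem phiS_π : phiS ⟨π0, π0_mem⟩ = 1 := by
  have h : (⟨π0, π0_mem⟩ : SS) = ⟨genE 5, genE_mem 5⟩ := Subtype.ext gen5.symm
  rw [h, phiS_gen, genP_triv (by norm_num)]

/-- The eighteen elements. -/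
noncomputable def kerEl (t : Fin 3 × Fin 2 × Fin 3) : Co0 :=
  om ^ t.1.val * negOne ^ t.2.1.val * π0 ^ t.2.2.val

theorem kerEl_mem (t : Fin 3 × Fin 2 × Fin 3) : kerEl t ∈ SS :=
  mul_mem (mul_mem (pow_mem om_mem _) (pow_mem negOne_mem _)) (pow_mem π0_mem _)

theorem phiS_kerEl (t : Fin 3 × Fin 2 × Fin 3) : phiS ⟨kerEl t, kerEl_mem t⟩ = 1 := by
  have e : (⟨kerEl t, kerEl_mem t⟩ : SS) = ⟨om, om_mem⟩ ^ t.1.val * ⟨negOne, negOne_mem⟩ ^ t.2.1.val *
      ⟨π0, π0_mem⟩ ^ t.2.2.val := Subtype.ext (by simp [kerEl])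
  rw [e, map_mul, map_mul, map_pow, map_pow, map_pow, phiS_om, phiS_negOne, phiS_π, one_pow,
    one_pow, one_pow, one_mul, one_mul]

theorem π0_pow_three : π0 ^ 3 = 1 := by
  show LatData.π lat_ok ^ 3 = 1
  rw [LatData.π, ← map_pow]
  refine (congrArg permHom (Subtype.ext (Equiv.ext fun q => idx_injective ?_))).trans (map_one _)
  rw [SubgroupClass.coe_pow, pow_three]
  show idx (gperm lat.r (gperm lat.r (gperm lat.r q))) = _
  rw [idx_gperm (LatData.okCode_r lat_ok), idx_gperm (LatData.okCode_r lat_ok),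
    idx_gperm (LatData.okCode_r lat_ok), pow_ok _ (idx_lt q)]
  rfl

theorem negOne_sq : negOne * negOne = 1 :=
  Frame.mul_self_of_diag (Frame.center_le_diag negOne_mem_center)

theorem π0_ne_one : π0 ≠ 1 := fun h => by
  have h1 : LatData.σ lat_ok = 1 := permHom_injective (h.trans (map_one _).symm)
  have h2 := congrArg (fun s : M24 => idx ((s : Equiv.Perm GolayPt) (pt 0))) h1
  have h0 : getW 5 lat.r 0 ≠ 0 := by decide +kernel
  apply h0
  have h3 : idx (gperm lat.r (pt 0)) = idx ((1 : Equiv.Perm GolayPt) (pt 0)) := h2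
  rwa [idx_gperm (LatData.okCode_r lat_ok), Equiv.Perm.one_apply, idx_pt (by norm_num)] at h3

/-- The action of the powers of the sign and of the permutation on classes is trivial. -/
theorem act_scalar (j i : ℕ) (x : LatData.V12) : act (negOne ^ j * π0 ^ i) x = x := by
  have hπ : ∀ i : ℕ, act (π0 ^ i) x = x := by
    intro i
    induction i with
    | zero => rw [pow_zero]; exact LatData.actV_one lat_ok x
    | succ i ih =>
      show LatData.actV lat_ok _ x = x
      rw [pow_succ, LatData.actV_mul lat_ok (pow_mem (LatData.π_mem lat_ok) i) (LatData.π_mem lat_ok),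
        LatData.actV_π]
      exact ih
  induction j with
  | zero => rw [pow_zero, one_mul]; exact hπ i
  | succ j ih =>
    show LatData.actV lat_ok _ x = x
    rw [pow_succ', mul_assoc, LatData.actV_mul lat_ok (LatData.negOne_mem lat_ok)
      (mul_mem (pow_mem (LatData.negOne_mem lat_ok) j) (pow_mem (LatData.π_mem lat_ok) i)),
      show LatData.actV lat_ok _ x = x from ih, LatData.actV_negOne]

/-- The powers of the element without fixed points move a class. -/
theorem om_pow_moves {k : ℕ} (hk : k = 1 ∨ k = 2) : ∃ x, act (om ^ k) x ≠ x := by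
  have hom : om ∈ CC := SS_le om_mem
  have hu : ∀ c : Fin 12, 2 ^ c.val < 4096 := fun c =>
    lt_of_lt_of_le (Nat.pow_lt_pow_right (by norm_num) c.isLt) (by norm_num)
  rcases hk with rfl | rfl
  · obtain ⟨c, hc⟩ := omega_moves.1
    refine ⟨vecC (2 ^ c.val), fun h => hc ?_⟩
    rw [pow_one, act_om (hu c)] at h
    exact vecC_injOn (appO_lt _) (hu c) h
  · obtain ⟨c, hc⟩ := omega_moves.2
    refine ⟨vecC (2 ^ c.val), fun h => hc ?_⟩
    have h' : LatData.actV lat_ok om (LatData.actV lat_ok om (vecC (2 ^ c.val))) =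
        vecC (2 ^ c.val) := by
      rw [← LatData.actV_mul lat_ok hom hom, ← pow_two]; exact h
    rw [show LatData.actV lat_ok om (vecC (2 ^ c.val)) = _ from act_om (hu c),
      show LatData.actV lat_ok om (vecC (appO (2 ^ c.val))) = _ from act_om (appO_lt _)] at h'
    exact vecC_injOn (appO_lt _) (hu c) h'

/-- A power of the element without fixed points acting trivially is trivial. -/
theorem kerEl_act {t : Fin 3 × Fin 2 × Fin 3} (h : ∀ x, act (kerEl t) x = x) : t.1.val = 0 := by
  by_contra h0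
  obtain ⟨x, hx⟩ := om_pow_moves (k := t.1.val) (by omega)
  apply hx
  have h1 := h x
  rw [kerEl, mul_assoc] at h1
  rw [show act (om ^ t.1.val * (negOne ^ t.2.1.val * π0 ^ t.2.2.val)) x =
      act (om ^ t.1.val) (act (negOne ^ t.2.1.val * π0 ^ t.2.2.val) x) from
    LatData.actV_mul lat_ok (pow_mem (SS_le om_mem) _)
      (mul_mem (pow_mem (LatData.negOne_mem lat_ok) _) (pow_mem (LatData.π_mem lat_ok) _)) x,
    act_scalar] at h1
  exact h1

theorem kerEl_injective : Function.Injective kerEl := by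
  have hn2 : ∀ j : ℕ, negOne ^ (j % 2) = negOne ^ j := fun j => by
    conv_rhs => rw [← Nat.mod_add_div j 2, pow_add, pow_mul, pow_two, negOne_sq, one_pow, mul_one]
  rintro ⟨a, b, c⟩ ⟨a', b', c'⟩ e
  simp only [kerEl] at e
  obtain ⟨o, ho⟩ : ∃ o, o = om := ⟨_, rfl⟩
  obtain ⟨p, hp⟩ : ∃ p, p = π0 := ⟨_, rfl⟩
  rw [← ho, ← hp] at e
  have hpn : Commute negOne p := (Subgroup.mem_center_iff.mp negOne_mem_center p).symm
  have key : ∀ (a a' : Fin 3) (b b' : Fin 2) (c c' : Fin 3), a.val ≤ a'.val →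
      o ^ a.val * negOne ^ b.val * p ^ c.val = o ^ a'.val * negOne ^ b'.val * p ^ c'.val →
      a = a' ∧ b = b' ∧ c = c' := by
    intro a a' b b' c c' hle e
    obtain ⟨d, hd⟩ := Nat.exists_eq_add_of_le hle
    rw [hd, pow_add, mul_assoc, mul_assoc, mul_assoc, mul_right_inj] at e
    have hd0 : d = 0 := by
      by_contra h0
      obtain ⟨x, hx⟩ := om_pow_moves (k := d) (by omega)
      apply hx
      have h1 := act_scalar b.val c.val x
      rw [← hp, e, ← mul_assoc] at h1
      rw [show act (o ^ d * negOne ^ b'.val * p ^ c'.val) x =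
          act (om ^ d) (act (negOne ^ b'.val * π0 ^ c'.val) x) from by
        rw [ho, hp, mul_assoc]
        exact LatData.actV_mul lat_ok (pow_mem (SS_le om_mem) _)
          (mul_mem (pow_mem (LatData.negOne_mem lat_ok) _) (pow_mem (LatData.π_mem lat_ok) _)) x,
        act_scalar] at h1
      exact h1
    subst hd0
    rw [pow_zero, one_mul] at e
    have ha : a = a' := Fin.ext (by omega)
    have h3 := congrArg (fun y : Co0 => y ^ 3) e
    simp only [(hpn.pow_pow _ _).mul_pow, ← pow_mul] at h3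
    rw [show p ^ (c.val * 3) = 1 by rw [mul_comm, pow_mul, hp, π0_pow_three, one_pow],
      show p ^ (c'.val * 3) = 1 by rw [mul_comm, pow_mul, hp, π0_pow_three, one_pow],
      mul_one, mul_one, ← hn2 (b.val * 3), ← hn2 (b'.val * 3)] at h3
    have hb : b = b' := by
      by_contra hb
      have hv : b.val ≠ b'.val := fun h => hb (Fin.ext h)
      rcases (by omega : b.val = 0 ∧ b'.val = 1 ∨ b.val = 1 ∧ b'.val = 0) with ⟨h, h'⟩ | ⟨h, h'⟩ <;>
        rw [h, h'] at h3 <;> norm_num at h3
      · exact negOne_ne_one h3.symm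
      · exact negOne_ne_one h3
    rw [hb, mul_right_inj] at e
    have hmod := pow_inj_mod.mp e
    rw [show orderOf p = 3 from orderOf_eq_prime (hp ▸ π0_pow_three) (hp ▸ π0_ne_one)] at hmod
    exact ⟨ha, hb, Fin.ext (by omega)⟩
  rcases le_total a.val a'.val with h | h
  · obtain ⟨h1, h2, h3⟩ := key a a' b b' c c' h e
    rw [h1, h2, h3]
  · obtain ⟨h1, h2, h3⟩ := key a' a b' b c' c h e.symm
    rw [h1, h2, h3]

theorem card_range_ker : Nat.card phiS.range = 6531840 ∧ Nat.card phiS.ker = 18 ∧ SS = CC := by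
  haveI := finite_co0
  have h1 : 6531840 ≤ Nat.card phiS.range := by
    rw [← card_objGrp]; exact Subgroup.card_le_of_le objGrp_le
  have h2 : 18 ≤ Nat.card phiS.ker := by
    refine le_trans (le_of_eq ?_) (Nat.card_le_card_of_injective
      (fun t : Fin 3 × Fin 2 × Fin 3 => (⟨⟨kerEl t, kerEl_mem t⟩, phiS_kerEl t⟩ : phiS.ker))
      fun t u e => kerEl_injective (congrArg (fun y : phiS.ker => ((y : SS) : Co0)) e))
    rw [Nat.card_prod, Nat.card_prod, Nat.card_fin, Nat.card_fin]
  have h3 := phiS.ker.card_mul_index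
  rw [Subgroup.index_ker] at h3
  have h4 : Nat.card SS ≤ Nat.card CC := Subgroup.card_le_of_le SS_le
  have h5 := card_CC_le
  have h6 : 18 * 6531840 ≤ Nat.card phiS.ker * Nat.card phiS.range := Nat.mul_le_mul h2 h1
  refine ⟨?_, ?_, Subgroup.eq_of_le_of_card_ge SS_le (by omega)⟩
  · by_contra h
    have : 18 * 6531841 ≤ Nat.card phiS.ker * Nat.card phiS.range :=
      Nat.mul_le_mul h2 (by omega)
    omega
  · by_contra h
    have : 19 * 6531840 ≤ Nat.card phiS.ker * Nat.card phiS.range :=
      Nat.mul_le_mul (by omega) h1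
    omega

theorem range_phiS : phiS.range = objGrp := by
  haveI := finite_co0
  exact (Subgroup.eq_of_le_of_card_ge objGrp_le (by rw [card_range_ker.1, card_objGrp])).symm

/-- The action of the centraliser on the objects. -/
noncomputable def phi : CC →* Equiv.Perm (Fin 126) :=
  phiS.comp (Subgroup.inclusion card_range_ker.2.2.ge)

theorem range_phi : phi.range = objGrp := by
  rw [← range_phiS]
  refine le_antisymm (by rintro _ ⟨g, rfl⟩; exact ⟨_, rfl⟩) ?_
  rintro _ ⟨g, rfl⟩
  exact ⟨⟨g, SS_le g.2⟩, congrArg phiS (Subtype.ext rfl)⟩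

/-- An element acting trivially on classes fixes the objects. -/
theorem phi_eq_one_of_act {g : CC} (h : ∀ x, act (g : Co0) x = x) : phi g = 1 :=
  phiS_eq_one_of_act (g := Subgroup.inclusion card_range_ker.2.2.ge g) h

/-- The kernel of the action on the objects. -/
theorem phi_eq_one_iff {g : CC} : phi g = 1 ↔ ∃ t, (g : Co0) = kerEl t := by
  haveI := finite_co0
  constructor
  · intro hg
    have hbij : Function.Bijective
        (fun t : Fin 3 × Fin 2 × Fin 3 => (⟨⟨kerEl t, kerEl_mem t⟩, phiS_kerEl t⟩ : phiS.ker)) := by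
      refine (Nat.bijective_iff_injective_and_card _).mpr
        ⟨fun t u e => kerEl_injective (congrArg (fun y : phiS.ker => ((y : SS) : Co0)) e), ?_⟩
      rw [card_range_ker.2.1, Nat.card_prod, Nat.card_prod, Nat.card_fin, Nat.card_fin]
    obtain ⟨t, ht⟩ := hbij.2 ⟨Subgroup.inclusion card_range_ker.2.2.ge g, hg⟩
    exact ⟨t, (congrArg (fun y : phiS.ker => ((y : SS) : Co0)) ht).symm⟩
  · rintro ⟨t, ht⟩
    exact (congrArg phiS (show Subgroup.inclusion card_range_ker.2.2.ge g = ⟨kerEl t, kerEl_mem t⟩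
      from Subtype.ext ht)).trans (phiS_kerEl t)

end Cfsg.Agent.Lib.MonsterFischer52.Model
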