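import Cfsg.Agent.Lib.MonsterFischer52.Kernel
import Cfsg.Agent.Lib.LatticeUnitary.U4

/-!
The image on the objects has a subgroup of index two isomorphic to the projective special unitary
group of dimension four over nine elements, and no non-trivial normal 2-subgroup.

Owner: helper52.
-/

set_option autoImplicit false
set_option maxRecDepth 20000
set_option linter.style.haveILetI false

namespace Cfsg.Agent.Lib.MonsterFischer52.Model

open Cfsg Cfsg.Agent.Lib.Leech Cfsg.Agent.Lib.Co3Model
open Cfsg.Agent.Lib.Computation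
open Cfsg.Agent.Lib.LatticeUnitary

/-- The group of the labelling of the lines. -/
noncomputable def sideGrp : Subgroup (Equiv.Perm (Fin 112)) :=
  Subgroup.closure ((decodeP 112 7) '' {c | c ∈ U4.side_gens})

theorem card_sideGrp : Nat.card sideGrp = 3265920 := by
  have h := (permRep 112 7 (by decide)).card_closure U4.side_check
  have ho : (permRep 112 7 (by decide)).order U4.side_chain = 3265920 := by decide +kernel
  rw [ho] at h
  exact h

theorem side_gens_ok : ∀ g : Fin 2, okPerm 112 7 (U4.side_gens.getD g 0) = true := by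
  decide +kernel

/-- The labelled group is the projective special unitary group. -/
theorem side_equiv : Nonempty (sideGrp ≃* Cfsg.PSU 4 Cfsg.Agent.Lib.U33.K9 3) := by
  haveI := finite_co0
  let M : Submonoid Co0 :=
    { carrier := {g | ∀ j : Fin 112, ∃ j' : Fin 112, g • U4.y j = U4.y j'}
      one_mem' := fun j => ⟨j, one_smul _ _⟩
      mul_mem' := fun {a b} ha hb j => by
        obtain ⟨j', e⟩ := hb j
        obtain ⟨j'', e'⟩ := ha j'
        exact ⟨j'', by rw [mul_smul, e, e']⟩ }
  let K : Subgroup Co0 := Subgroup.closure (Set.range fun g : Fin 2 => U4.atomElt g)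
  have hK : ∀ a ∈ K, a ∈ M := by
    intro a ha
    have : a ∈ Submonoid.closure (Set.range fun g : Fin 2 => U4.atomElt g) := by
      rw [← Subgroup.closure_toSubmonoid_of_finite]; exact ha
    refine Submonoid.closure_le.2 ?_ this
    rintro _ ⟨g, rfl⟩
    intro j
    refine ⟨⟨_, (U4.atom_ok g j).1⟩, lv_injective ?_⟩
    show lv (U4.atomElt g • U4.y j) = _
    rw [U4.atomElt, lv_word (U4.atom_all g), U4.lv_y, U4.lv_y]
    exact (U4.atom_ok g j).2
  have hKG : K ≤ U4.G0 := by
    rw [Subgroup.closure_le]
    rintro _ ⟨g, rfl⟩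
    exact U4.atomElt_mem g
  choose π hπ using fun (a : K) j => hK a.1 a.2 j
  have hπ1 : ∀ j, π 1 j = j := fun j => U4.y_injective ((hπ 1 j).symm.trans (one_smul _ _))
  have hπm : ∀ a b j, π (a * b) j = π a (π b j) := fun a b j => U4.y_injective (by
    rw [← hπ (a * b) j, ← hπ a, ← hπ b, ← mul_smul]; rfl)
  let ρ : K →* Equiv.Perm (Fin 112) :=
    { toFun := fun a =>
        { toFun := π a
          invFun := π a⁻¹
          left_inv := fun j => by rw [← hπm, inv_mul_cancel, hπ1]
          right_inv := fun j => by rw [← hπm, mul_inv_cancel, hπ1] }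
      map_one' := Equiv.ext hπ1
      map_mul' := fun a b => Equiv.ext (hπm a b) }
  have hle : sideGrp ≤ ρ.range := by
    rw [sideGrp, Subgroup.closure_le]
    rintro _ ⟨c, hc, rfl⟩
    have hmem : ∃ g : Fin 2, U4.side_gens.getD g 0 = c := by
      have hl : U4.side_gens.length = 2 := rfl
      obtain ⟨i, hi, rfl⟩ := List.mem_iff_getElem.1 (hc : c ∈ U4.side_gens)
      exact ⟨⟨i, hl ▸ hi⟩, List.getD_eq_getElem _ _ hi⟩
    obtain ⟨g, rfl⟩ := hmem
    refine ⟨⟨U4.atomElt g, Subgroup.subset_closure ⟨g, rfl⟩⟩, Equiv.ext fun j => ?_⟩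
    apply U4.y_injective
    show U4.y (π _ j) = _
    rw [← hπ]
    apply lv_injective
    show lv (U4.atomElt g • U4.y j) = _
    rw [U4.atomElt, lv_word (U4.atom_all g), U4.lv_y, U4.lv_y, decodeP_apply (side_gens_ok g)]
    exact (U4.atom_ok g j).2
  have h1 : Nat.card sideGrp ≤ Nat.card ρ.range := Subgroup.card_le_of_le hle
  have h2 : Nat.card ρ.range ≤ Nat.card K :=
    Nat.card_le_card_of_surjective _ ρ.rangeRestrict_surjective
  have h3 : Nat.card K ≤ Nat.card U4.G0 := Subgroup.card_le_of_le hKG
  rw [U4.card_G0] at h3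
  rw [card_sideGrp] at h1
  have eK : K = U4.G0 := Subgroup.eq_of_le_of_card_ge hKG (by rw [U4.card_G0]; omega)
  have er : sideGrp = ρ.range := Subgroup.eq_of_le_of_card_ge hle (by rw [card_sideGrp]; omega)
  obtain ⟨e⟩ := U4.main
  refine ⟨(MulEquiv.subgroupCongr er).trans ((MulEquiv.ofBijective ρ.rangeRestrict
    ((Nat.bijective_iff_surjective_and_card _).mpr ⟨ρ.rangeRestrict_surjective, by omega⟩)).symm.trans
    ((MulEquiv.subgroupCongr eK).trans e))⟩

theorem line_in_side : (line_gens.all fun c => okPerm 112 7 c &&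
    (permRep 112 7 (by decide)).sift U4.side_chain c) = true := by
  decide +kernel

/-- The permutations of the lines. -/
noncomputable def lineGrp : Subgroup (Equiv.Perm (Fin 112)) :=
  Subgroup.closure ((decodeP 112 7) '' {c | c ∈ line_gens})

theorem lineGrp_eq : lineGrp = sideGrp := by
  have h := (permRep 112 7 (by decide)).card_closure line_check
  have ho : (permRep 112 7 (by decide)).order line_chain = 3265920 := by decide +kernel
  rw [ho] at h
  refine Subgroup.eq_of_le_of_card_ge ?_ (by rw [card_sideGrp]; exact h.ge)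
  rw [lineGrp, Subgroup.closure_le]
  rintro _ ⟨c, hc, rfl⟩
  have hl := List.all_eq_true.mp line_in_side c hc
  rw [Bool.and_eq_true] at hl
  show decodeP 112 7 c ∈ sideGrp
  rw [sideGrp, show Subgroup.closure ((decodeP 112 7) '' {s | s ∈ U4.side_gens}) = _ from
    (permRep 112 7 (by decide)).closure_eq_grp U4.side_check]
  exact (permRep 112 7 (by decide)).mem_grp_of_sift
    ((permRep 112 7 (by decide)).checkChain_of_checkClosure U4.side_check) hl.1 hl.2

/-- The subgroup of index two. -/
noncomputable def halfGrp : Subgroup (Equiv.Perm (Fin 126)) :=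
  Subgroup.closure ((decodeP 126 7) '' {c | c ∈ half_gens})

theorem card_halfGrp : Nat.card halfGrp = 3265920 := by
  have h := (permRep 126 7 (by decide)).card_closure half_check
  have ho : (permRep 126 7 (by decide)).order half_chain = 3265920 := by decide +kernel
  rw [ho] at h
  exact h

theorem half_in_obj : (half_gens.all fun c => okPerm 126 7 c &&
    (permRep 126 7 (by decide)).sift obj_chain c) = true := by
  decide +kernel

theorem halfGrp_le : halfGrp ≤ objGrp := by
  rw [halfGrp, Subgroup.closure_le]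
  rintro _ ⟨c, hc, rfl⟩
  have hl := List.all_eq_true.mp half_in_obj c hc
  rw [Bool.and_eq_true] at hl
  show decodeP 126 7 c ∈ objGrp
  rw [objGrp, show Subgroup.closure ((decodeP 126 7) '' {s | s ∈ obj_gens}) = _ from
    (permRep 126 7 (by decide)).closure_eq_grp obj_check]
  exact (permRep 126 7 (by decide)).mem_grp_of_sift
    ((permRep 126 7 (by decide)).checkChain_of_checkClosure obj_check) hl.1 hl.2

/-- A pair of permutations as one. -/
noncomputable def joinP : Equiv.Perm (Fin 126) × Equiv.Perm (Fin 112) →* Equiv.Perm (Fin 238) :=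
  (finSumFinEquiv (m := 126) (n := 112)).permCongrHom.toMonoidHom.comp
    (Equiv.Perm.sumCongrHom (Fin 126) (Fin 112))

theorem joinP_injective : Function.Injective joinP :=
  (finSumFinEquiv (m := 126) (n := 112)).permCongrHom.injective.comp
    Equiv.Perm.sumCongrHom_injective

theorem pair_ok : ∀ g : Fin 2, okPerm 126 7 (half_gens.getD g 0) = true ∧
    okPerm 112 7 (line_gens.getD g 0) = true ∧ okPerm 238 8 (pair_gens.getD g 0) = true ∧
    (∀ i : Fin 126, getW 8 (pair_gens.getD g 0) i.val = getW 7 (half_gens.getD g 0) i.val) ∧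
    ∀ i : Fin 112,
      getW 8 (pair_gens.getD g 0) (126 + i.val) = 126 + getW 7 (line_gens.getD g 0) i.val := by
  decide +kernel

theorem joinP_gen (g : Fin 2) : joinP (decodeP 126 7 (half_gens.getD g 0),
    decodeP 112 7 (line_gens.getD g 0)) = decodeP 238 8 (pair_gens.getD g 0) := by
  obtain ⟨h1, h2, h3, h4, h5⟩ := pair_ok g
  refine Equiv.ext fun x => ?_
  obtain ⟨s, rfl⟩ := (finSumFinEquiv (m := 126) (n := 112)).surjective x
  show finSumFinEquiv (Equiv.Perm.sumCongr _ _
    ((finSumFinEquiv (m := 126) (n := 112)).symm (finSumFinEquiv s))) = _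
  rw [Equiv.symm_apply_apply]
  apply Fin.ext
  rw [decodeP_apply h3]
  cases s with
  | inl i =>
    simp only [Equiv.Perm.sumCongr_apply, Sum.map_inl, finSumFinEquiv_apply_left, Fin.val_castAdd]
    rw [decodeP_apply h1, h4]
  | inr i =>
    simp only [Equiv.Perm.sumCongr_apply, Sum.map_inr, finSumFinEquiv_apply_right, Fin.val_natAdd]
    rw [decodeP_apply h2, h5]

theorem gens_two : half_gens = [half_gens.getD 0 0, half_gens.getD 1 0] ∧
    line_gens = [line_gens.getD 0 0, line_gens.getD 1 0] ∧
    pair_gens = [pair_gens.getD 0 0, pair_gens.getD 1 0] := ⟨rfl, rfl, rfl⟩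

theorem image_two {α : Type*} (f : ℕ → α) {l : List ℕ} (h : l = [l.getD 0 0, l.getD 1 0]) :
    f '' {c | c ∈ l} = Set.range fun g : Fin 2 => f (l.getD g.val 0) := by
  ext a
  constructor
  · rintro ⟨c, hc, rfl⟩
    have hc' : c ∈ [l.getD 0 0, l.getD 1 0] := h ▸ hc
    simp only [List.mem_cons, List.not_mem_nil, or_false] at hc'
    rcases hc' with rfl | rfl
    · exact ⟨0, rfl⟩
    · exact ⟨1, rfl⟩
  · rintro ⟨g, rfl⟩
    refine ⟨_, ?_, rfl⟩
    show _ ∈ l
    rw [h]
    fin_cases g <;> simp

/-- The subgroup of index two is the projective special unitary group. -/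
theorem half_equiv : Nonempty (halfGrp ≃* Cfsg.PSU 4 Cfsg.Agent.Lib.U33.K9 3) := by
  let p : Fin 2 → Equiv.Perm (Fin 126) × Equiv.Perm (Fin 112) := fun g =>
    (decodeP 126 7 (half_gens.getD g 0), decodeP 112 7 (line_gens.getD g 0))
  let K : Subgroup (Equiv.Perm (Fin 126) × Equiv.Perm (Fin 112)) := Subgroup.closure (Set.range p)
  have hK : Nat.card K = 3265920 := by
    have h := (permRep 238 8 (by decide)).card_closure pair_check
    have ho : (permRep 238 8 (by decide)).order pair_chain = 3265920 := by decide +kernel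
    rw [ho] at h
    have hmap : K.map joinP = Subgroup.closure ((decodeP 238 8) '' {c | c ∈ pair_gens}) := by
      rw [MonoidHom.map_closure, image_two _ gens_two.2.2, ← Set.range_comp]
      congr 1
      exact congrArg Set.range (funext fun g => joinP_gen g)
    rw [← Subgroup.card_map_of_injective joinP_injective, hmap]
    exact h
  have hfst : K.map (MonoidHom.fst _ _) = halfGrp := by
    rw [MonoidHom.map_closure, halfGrp, image_two _ gens_two.1, ← Set.range_comp]
    rfl
  have hsnd : K.map (MonoidHom.snd _ _) = lineGrp := by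
    rw [MonoidHom.map_closure, lineGrp, image_two _ gens_two.2.1, ← Set.range_comp]
    rfl
  let f1 : K →* Equiv.Perm (Fin 126) := (MonoidHom.fst _ _).comp K.subtype
  let f2 : K →* Equiv.Perm (Fin 112) := (MonoidHom.snd _ _).comp K.subtype
  have r1 : f1.range = halfGrp := by
    rw [← hfst, MonoidHom.range_comp, Subgroup.range_subtype]
  have r2 : f2.range = sideGrp := by
    rw [← lineGrp_eq, ← hsnd, MonoidHom.range_comp, Subgroup.range_subtype]
  have b1 : Function.Bijective f1.rangeRestrict :=
    (Nat.bijective_iff_surjective_and_card _).mpr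
      ⟨f1.rangeRestrict_surjective, by rw [hK, r1, card_halfGrp]⟩
  have b2 : Function.Bijective f2.rangeRestrict :=
    (Nat.bijective_iff_surjective_and_card _).mpr
      ⟨f2.rangeRestrict_surjective, by rw [hK, r2, card_sideGrp]⟩
  obtain ⟨e⟩ := side_equiv
  exact ⟨(MulEquiv.subgroupCongr r1).symm.trans ((MulEquiv.ofBijective _ b1).symm.trans
    ((MulEquiv.ofBijective _ b2).trans ((MulEquiv.subgroupCongr r2).trans e)))⟩

theorem half_simple : IsSimpleGroup halfGrp := by
  haveI := Cfsg.Agent.Lib.Unitary.isSimpleGroup_PSU (F := Cfsg.Agent.Lib.U33.K9) (q := 3) (n := 4)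
    Cfsg.Agent.Lib.LatticeUnitary.U4.card_k9' (by norm_num) (by omega)
  obtain ⟨e⟩ := half_equiv
  exact e.isSimpleGroup

theorem half_index : (halfGrp.subgroupOf objGrp).index = 2 := by
  have h := (halfGrp.subgroupOf objGrp).card_mul_index
  rw [Nat.card_congr (Subgroup.subgroupOfEquivOfLe halfGrp_le).toEquiv, card_halfGrp,
    card_objGrp] at h
  omega

theorem stab_moves : ∀ j : Fin 126, j.val ≠ 0 →
    ((permRep 126 7 (by decide)).topGens (obj_chain.drop 1)).any
      (fun s => !(Nat.beq (getW 7 s j.val) j.val)) = true := by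
  decide +kernel

theorem stab_fix : ((permRep 126 7 (by decide)).topGens (obj_chain.drop 1)).all
    (fun s => okPerm 126 7 s && Nat.beq (getW 7 s 0) 0) = true := by
  decide +kernel

/-- The base and the orbit length of the first level. -/
def firstLevel : List (Level ℕ) → ℕ × ℕ
  | [] => (1, 0)
  | L :: _ => (L.base, L.orb.toList.length)

theorem first_ok : firstLevel obj_chain = (0, 126) := by decide +kernel

theorem center_trivial {t : Equiv.Perm (Fin 126)} (h : ∀ g ∈ objGrp, g * t = t * g) : t = 1 := by
  have hfix : t 0 = 0 := by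
    by_contra hne
    have hv : (t 0).val ≠ 0 := fun e => hne (Fin.ext e)
    obtain ⟨s, hs, hmv⟩ := List.any_eq_true.mp (stab_moves (t 0) hv)
    have hfs := List.all_eq_true.mp stab_fix s hs
    rw [Bool.and_eq_true, Nat.beq_eq] at hfs
    have hsm : decodeP 126 7 s ∈ objGrp := by
      rw [objGrp, show Subgroup.closure ((decodeP 126 7) '' {c | c ∈ obj_gens}) = _ from
        (permRep 126 7 (by decide)).closure_eq_grp obj_check]
      have hc := (permRep 126 7 (by decide)).checkChain_of_checkClosure obj_check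
      have hmem := (permRep 126 7 (by decide)).val_mem_grp hs
      revert hc hmem
      generalize obj_chain = c
      intro hc hmem
      cases c with
      | nil => exact hmem
      | cons L rest => exact (permRep 126 7 (by decide)).grp_tail_le hc hmem
    have e := congrArg (fun p : Equiv.Perm (Fin 126) => (p 0).val) (h _ hsm)
    simp only [Equiv.Perm.mul_apply] at e
    rw [decodeP_apply hfs.1,
      show decodeP 126 7 s 0 = 0 from Fin.ext ((decodeP_apply hfs.1 0).trans hfs.2)] at e
    simp only [Bool.not_eq_true'] at hmv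
    rw [e] at hmv
    simp at hmv
  refine Equiv.ext fun i => ?_
  have hc := (permRep 126 7 (by decide)).checkChain_of_checkClosure obj_check
  obtain ⟨L, rest, hL⟩ : ∃ L rest, obj_chain = L :: rest := by
    have := first_ok
    revert this
    generalize obj_chain = c
    intro this
    cases c with
    | nil => simp [firstLevel] at this
    | cons L rest => exact ⟨L, rest, rfl⟩
  have hf := first_ok
  rw [hL] at hf hc
  simp only [firstLevel, Prod.mk.injEq] at hf
  obtain ⟨g, hg, hgi⟩ := exists_apply_base_eq hc hf.2 i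
  rw [hf.1, show Fin.ofNat 126 0 = (0 : Fin 126) from rfl] at hgi
  have hg' : g ∈ objGrp := by
    rw [objGrp, show Subgroup.closure ((decodeP 126 7) '' {c | c ∈ obj_gens}) = _ from
      (permRep 126 7 (by decide)).closure_eq_grp obj_check, hL]
    exact hg
  have e := congrArg (fun p : Equiv.Perm (Fin 126) => p 0) (h g hg')
  simp only [Equiv.Perm.mul_apply, hfix, hgi] at e
  rw [Equiv.Perm.one_apply]
  exact e.symm

/-- There is no non-trivial normal 2-subgroup. -/
theorem no_normal_two (N : Subgroup objGrp) (hN : N.Normal) (hp : IsPGroup 2 N) : N = ⊥ := by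
  haveI : Fact (Nat.Prime 2) := ⟨Nat.prime_two⟩
  haveI := half_simple
  obtain ⟨H, hH⟩ : ∃ H, H = halfGrp.subgroupOf objGrp := ⟨_, rfl⟩
  haveI : IsSimpleGroup H :=
    hH ▸ (Subgroup.subgroupOfEquivOfLe halfGrp_le).isSimpleGroup
  have hidx : H.index = 2 := hH ▸ half_index
  haveI hnn : (N.subgroupOf H).Normal := hN.subgroupOf H
  have hinf : N ⊓ H = ⊥ := by
    rcases hnn.eq_bot_or_eq_top with e | e
    · rwa [Subgroup.subgroupOf_eq_bot, disjoint_iff] at e
    · exfalso
      rw [Subgroup.subgroupOf_eq_top] at e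
      have hc := Subgroup.card_dvd_of_le e
      obtain ⟨n, hn⟩ := IsPGroup.iff_card.mp hp
      rw [hH, Nat.card_congr (Subgroup.subgroupOfEquivOfLe halfGrp_le).toEquiv, card_halfGrp,
        hn] at hc
      have : (3 : ℕ) ∣ 2 := Nat.prime_three.dvd_of_dvd_pow ((by norm_num : (3:ℕ) ∣ 3265920).trans hc)
      omega
  have hcard : Nat.card N ≤ 2 := by
    have h1 : (N ⊓ H).relIndex N ∣ 2 := by
      rw [Subgroup.inf_relIndex_left]
      haveI : H.Normal := Subgroup.normal_of_index_eq_two hidx
      exact hidx ▸ Subgroup.relIndex_dvd_index_of_normal H N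
    rw [hinf, Subgroup.relIndex_bot_left] at h1
    exact Nat.le_of_dvd two_pos h1
  rw [eq_bot_iff]
  intro t ht
  rw [Subgroup.mem_bot]
  by_contra ht1
  refine ht1 (Subtype.ext (center_trivial fun g hg => ?_))
  obtain ⟨g', hg'⟩ : ∃ g' : objGrp, g' = ⟨g, hg⟩ := ⟨_, rfl⟩
  have hconj := hN.conj_mem t ht g'
  have hne : g' * t * g'⁻¹ ≠ 1 := fun e => ht1 (conj_eq_one_iff.mp e)
  have heq : g' * t * g'⁻¹ = t := by
    by_contra hd
    have h3 : ({1, t, g' * t * g'⁻¹} : Set objGrp).ncard = 3 :=
      Set.ncard_eq_three.mpr ⟨_, _, _, Ne.symm ht1, Ne.symm hne, Ne.symm hd, rfl⟩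
    have hsub : ({1, t, g' * t * g'⁻¹} : Set objGrp) ⊆ (N : Set objGrp) := by
      rintro x (rfl | rfl | rfl)
      · exact one_mem N
      · exact ht
      · exact hconj
    have h4 := Set.ncard_le_ncard hsub (Set.toFinite _)
    rw [h3, ← Nat.card_coe_set_eq, show Nat.card (N : Set objGrp) = Nat.card N from rfl] at h4
    omega
  rw [mul_inv_eq_iff_eq_mul] at heq
  have := congrArg Subtype.val heq
  rw [hg'] at this
  exact this

end Cfsg.Agent.Lib.MonsterFischer52.Model
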