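import Cfsg.Agent.Lib.MonsterFischer52.Omega
import Cfsg.Agent.Lib.Balance.Locals

/-!
Monster type: the centraliser of the element over the coded permutation modulo that element is of
large Fischer type.

Owner: helper52.
-/

set_option autoImplicit false
set_option maxRecDepth 20000
set_option linter.unusedSectionVars false
set_option linter.style.haveILetI false

namespace Cfsg.Agent.Lib.MonsterFischer52.Model

open Cfsg Cfsg.Agent.Lib.Leech
open Cfsg.Agent.Lib.LeechMod2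

local notation "Cen[" z "]" => Subgroup.centralizer ({z} : Set _)

variable {G : Type*} [Group G] [Finite G] {z : G}
  {Q : Subgroup (Subgroup.centralizer ({z} : Set G))}
  [Q.Normal] {e : Cen[z] ⧸ Q ≃* Spor.Co1} {ψ : leechLattice → Q ⧸ Subgroup.center Q}
  {b : Subgroup.centralizer ({z} : Set G)} {B : Subgroup G}

namespace Ctx

variable (X : Ctx z Q e ψ b) (hB : B = Subgroup.zpowers (b : G))

include hB in
omit [Finite G] [Q.Normal] in
theorem mem_CB {g : G} : g ∈ Subgroup.centralizer (B : Set G) ↔ Commute g (b : G) := by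
  subst hB
  rw [Subgroup.mem_centralizer_iff]
  constructor
  · exact fun h => (h _ (Subgroup.mem_zpowers _)).symm
  · rintro h x ⟨i, rfl⟩
    exact (h.zpow_right i).eq.symm

/-- The inclusion. -/
noncomputable def toCB : X.HH →* Subgroup.centralizer (B : Set G) :=
  (Cen[z].subtype.comp X.HH.subtype).codRestrict _ fun h => (mem_CB hB).mpr
    (congrArg Subtype.val (Subgroup.mem_centralizer_singleton_iff.mp h.2))

omit [Finite G] in
theorem toCB_coe (h : X.HH) : (X.toCB hB h : G) = ((h : Cen[z]) : G) := rfl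

variable [hn : (B.subgroupOf (Subgroup.centralizer (B : Set G))).Normal]

/-- The quotient. -/
abbrev GN (B : Subgroup G) [(B.subgroupOf (Subgroup.centralizer (B : Set G))).Normal] : Type _ :=
  Subgroup.centralizer (B : Set G) ⧸ B.subgroupOf (Subgroup.centralizer (B : Set G))

/-- The map to the quotient. -/
noncomputable def pS : X.HH →* GN B := (QuotientGroup.mk' _).comp (X.toCB hB)

theorem pS_eq_one {h : X.HH} : X.pS hB h = 1 ↔ (h : Cen[z]) ∈ Subgroup.zpowers b := by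
  show (QuotientGroup.mk (X.toCB hB h) : GN B) = 1 ↔ _
  rw [QuotientGroup.eq_one_iff, Subgroup.mem_subgroupOf, toCB_coe, Subgroup.mem_zpowers_iff]
  constructor
  · intro hh
    rw [hB, Subgroup.mem_zpowers_iff] at hh
    obtain ⟨i, hi⟩ := hh
    exact ⟨i, Subtype.ext (by rw [SubgroupClass.coe_zpow]; exact hi)⟩
  · rintro ⟨i, hi⟩
    rw [hB, ← hi, SubgroupClass.coe_zpow]
    exact zpow_mem (Subgroup.mem_zpowers _) i

theorem pS_injOn {q r : X.HH} (hq : q ∈ X.Q0) (hr : r ∈ X.Q0) (h : X.pS hB q = X.pS hB r) :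
    q = r := by
  have h1 : ((q * r⁻¹ : X.HH) : Cen[z]) ∈ Subgroup.zpowers b :=
    (X.pS_eq_one hB).mp (by rw [map_mul, map_inv, h, mul_inv_cancel])
  exact mul_inv_eq_one.mp (Subtype.ext (X.zpowers_inter h1 (mul_mem hq (inv_mem hr))))

/-- The involution. -/
noncomputable def zS : GN B := X.pS hB X.zh

/-- Lifting a conjugation between involutions. -/
theorem lift_conj {x : G} (hxb : Commute x (b : G)) (hx : x ∈ Subgroup.centralizer (B : Set G))
    (hx2 : x * x = 1) {c : Subgroup.centralizer (B : Set G)}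
    (h : (QuotientGroup.mk c : GN B) * X.zS hB * (QuotientGroup.mk c)⁻¹ =
      QuotientGroup.mk (⟨x, hx⟩ : Subgroup.centralizer (B : Set G))) :
    (c : G) * z * (c : G)⁻¹ = x := by
  have h1 : (QuotientGroup.mk (⟨x, hx⟩⁻¹ * (c * X.toCB hB X.zh * c⁻¹)) : GN B) = 1 := by
    show (QuotientGroup.mk (⟨x, hx⟩ : Subgroup.centralizer (B : Set G)))⁻¹ *
      ((QuotientGroup.mk c : GN B) * X.zS hB * (QuotientGroup.mk c)⁻¹) = 1
    rw [h, inv_mul_cancel]
  rw [QuotientGroup.eq_one_iff, Subgroup.mem_subgroupOf] at h1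
  obtain ⟨i, hi⟩ : ∃ i : ℤ, (b : G) ^ i = x⁻¹ * ((c : G) * z * (c : G)⁻¹) :=
    Subgroup.mem_zpowers_iff.mp (hB ▸ h1)
  have hz2 : z * z = 1 := by
    have := pow_orderOf_eq_one z
    rwa [X.hS.1, pow_two] at this
  have hcz : (c : G) * z * (c : G)⁻¹ = x * (b : G) ^ i := by rw [hi, mul_inv_cancel_left]
  have h2 : (x * (b : G) ^ i) * (x * (b : G) ^ i) = 1 := by
    rw [← hcz, conj_mul, hz2, mul_one, mul_inv_cancel]
  have hxi : Commute x ((b : G) ^ i) := hxb.zpow_right i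
  rw [mul_assoc, ← mul_assoc ((b : G) ^ i), ← hxi.eq, mul_assoc, ← mul_assoc x, hx2, one_mul] at h2
  have hp : ((b : G) ^ i) ^ 3 = 1 := by
    rw [← zpow_natCast, ← zpow_mul, mul_comm, zpow_mul, zpow_natCast, ← SubgroupClass.coe_pow,
      X.hbp, OneMemClass.coe_one, one_zpow]
  obtain ⟨m, hm⟩ := (Nat.prime_three.eq_two_or_odd'.resolve_left (by norm_num))
  rw [hm, pow_succ, pow_mul, pow_two, h2, one_pow, one_mul] at hp
  rw [hcz, hp, mul_one]

theorem zS_sq : X.zS hB * X.zS hB = 1 := by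
  rw [zS, ← map_mul, show X.zh * X.zh = 1 from Subtype.ext (Subtype.ext (by
    show z * z = 1
    have := pow_orderOf_eq_one z
    rwa [X.hS.1, pow_two] at this)), map_one]

omit hn in
theorem zh_ne_one : X.zh ≠ 1 := fun h => by
  have h1 : z = 1 := congrArg (fun y : X.HH => ((y : Cen[z]) : G)) h
  have h2 := X.hS.1
  rw [h1, orderOf_one] at h2
  norm_num at h2

theorem zS_order : orderOf (X.zS hB) = 2 :=
  orderOf_eq_prime (by rw [pow_two]; exact X.zS_sq hB) fun h =>
    X.zh_ne_one (X.pS_injOn hB X.zh_mem (one_mem _) (h.trans (map_one _).symm))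

omit hn in
theorem commute_zh (h : X.HH) : Commute h X.zh :=
  Subtype.ext (Subtype.ext (Subgroup.mem_centralizer_singleton_iff.mp (h : Cen[z]).2))

/-- The map onto the centraliser of the involution. -/
noncomputable def pC : X.HH →* Subgroup.centralizer ({X.zS hB} : Set (GN B)) :=
  (X.pS hB).codRestrict _ fun h => Subgroup.mem_centralizer_singleton_iff.mpr
    ((X.commute_zh h).map (X.pS hB)).eq

theorem pC_coe (h : X.HH) : (X.pC hB h : GN B) = X.pS hB h := rfl

theorem pC_surjective : Function.Surjective (X.pC hB) := by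
  rintro ⟨c, hc⟩
  obtain ⟨g, rfl⟩ := QuotientGroup.mk_surjective c
  have hzB : z ∈ Subgroup.centralizer (B : Set G) :=
    (mem_CB hB).mpr (Subgroup.mem_centralizer_singleton_iff.mp b.2).symm
  have hz2 : z * z = 1 := by
    have := pow_orderOf_eq_one z
    rwa [X.hS.1, pow_two] at this
  have h1 := X.lift_conj hB (Subgroup.mem_centralizer_singleton_iff.mp b.2).symm hzB hz2 (c := g) (by
    rw [Subgroup.mem_centralizer_singleton_iff.mp hc, mul_inv_cancel_right]
    rfl)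
  have hgz : (g : G) ∈ Cen[z] :=
    Subgroup.mem_centralizer_singleton_iff.mpr (mul_inv_eq_iff_eq_mul.mp h1)
  exact ⟨⟨⟨g, hgz⟩, Subgroup.mem_centralizer_singleton_iff.mpr
    (Subtype.ext ((mem_CB hB).mp g.2).eq)⟩, Subtype.ext rfl⟩

theorem pC_injOn {q r : X.HH} (hq : q ∈ X.Q0) (hr : r ∈ X.Q0) (h : X.pC hB q = X.pC hB r) :
    q = r := X.pS_injOn hB hq hr (congrArg Subtype.val h)

/-- The extraspecial subgroup. -/
noncomputable def QC : Subgroup (Subgroup.centralizer ({X.zS hB} : Set (GN B))) :=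
  X.Q0.map (X.pC hB)

theorem mem_QC {c : Subgroup.centralizer ({X.zS hB} : Set (GN B))} :
    c ∈ X.QC hB ↔ ∃ q ∈ X.Q0, X.pC hB q = c := Subgroup.mem_map

instance QC_normal : (X.QC hB).Normal :=
  Subgroup.Normal.map inferInstance _ (X.pC_surjective hB)

/-- The isomorphism with the fixed part. -/
noncomputable def isoQC : X.Q0 ≃* X.QC hB :=
  MulEquiv.ofBijective (((X.pC hB).comp X.Q0.subtype).codRestrict (X.QC hB)
      fun q => Subgroup.mem_map_of_mem _ q.2)
    ⟨fun q r h => Subtype.ext (X.pC_injOn hB q.2 r.2 (congrArg Subtype.val h)), fun c => by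
      obtain ⟨q, hq, e1⟩ := (X.mem_QC hB).1 c.2
      exact ⟨⟨q, hq⟩, Subtype.ext e1⟩⟩

omit hn in
theorem extraspecial_Q0 : IsExtraspecial 2 X.Q0 := by
  obtain ⟨a, s, -, -⟩ := X.setting
  have hqmap : ∀ q : X.Q0, (((q : X.HH) : Cen[z]) : G) ∈ Q.map Cen[z].subtype :=
    fun q => ⟨_, q.2, rfl⟩
  refine Co1Local52.extraspecial_of (IsPGroup.of_card X.card_Q0) ⟨X.zh, X.zh_mem⟩
    (fun h => X.zh_ne_one (congrArg Subtype.val h)) (fun g => Subtype.ext (X.commute_zh _).eq)
    (fun g => ?_) (fun g h => ?_) (fun g h1 h2 => ?_) ?_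
  · rcases s.es.sq_cases (hqmap g) with e1 | e1
    · exact Or.inl (Subtype.ext (Subtype.ext (Subtype.ext e1)))
    · exact Or.inr (Subtype.ext (Subtype.ext (Subtype.ext e1)))
  · rcases s.es.conj _ (hqmap h) _ (hqmap g) with e1 | e1
    · exact Or.inl (Subtype.ext (Subtype.ext (Subtype.ext e1)))
    · exact Or.inr (Subtype.ext (Subtype.ext (Subtype.ext e1)))
  · obtain ⟨r, hr, hre⟩ := X.exists_move g.2 (fun e1 => h1 (Subtype.ext e1))
      (fun e1 => h2 (Subtype.ext e1))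
    exact ⟨⟨r, hr⟩, Subtype.ext hre⟩
  · obtain ⟨q, hq, hqx⟩ := X.coord_surjective (vecC s0)
    have hne := X.s0_ne_zero
    refine ⟨⟨q, hq⟩, fun h => hne ?_, fun h => hne ?_⟩
    · rw [← hqx, (X.coord_eq_zero hq).mpr (Or.inl (congrArg Subtype.val h))]
    · rw [← hqx, (X.coord_eq_zero hq).mpr (Or.inr (congrArg Subtype.val h))]

theorem theta_of_ker : (X.pC hB).ker ≤ X.theta.ker := by
  intro h hh
  rw [MonoidHom.mem_ker] at hh ⊢
  obtain ⟨i, hi⟩ := Subgroup.mem_zpowers_iff.mp ((X.pS_eq_one hB).mp (congrArg Subtype.val hh))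
  have hb : b ∈ X.HH := Subgroup.mem_centralizer_singleton_iff.mpr rfl
  have e1 : h = (⟨b, hb⟩ : X.HH) ^ i := Subtype.ext (by
    rw [SubgroupClass.coe_zpow]; exact hi.symm)
  have h2 : X.theta ⟨b, hb⟩ = 1 :=
    (congrArg phiBar (Subtype.ext X.pr_b : (_ : CB) = ⟨β, X.pr_b ▸ X.pr_mem_CB ⟨b, hb⟩⟩)).trans
      (phiBar_β _)
  rw [e1, map_zpow, h2, one_zpow]

/-- The action of the centraliser of the involution on the objects. -/
noncomputable def thetaC : Subgroup.centralizer ({X.zS hB} : Set (GN B)) →*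
    Equiv.Perm (Fin 126) :=
  (X.pC hB).liftOfSurjective (X.pC_surjective hB) ⟨X.theta, X.theta_of_ker hB⟩

theorem thetaC_pC (h : X.HH) : X.thetaC hB (X.pC hB h) = X.theta h :=
  MonoidHom.liftOfRightInverse_comp_apply _ _ _ _ h

theorem range_thetaC : (X.thetaC hB).range = objGrp := by
  rw [← X.range_theta]
  ext f
  constructor
  · rintro ⟨c, rfl⟩
    obtain ⟨h, rfl⟩ := X.pC_surjective hB c
    exact ⟨h, (X.thetaC_pC hB h).symm⟩
  · rintro ⟨h, rfl⟩
    exact ⟨X.pC hB h, X.thetaC_pC hB h⟩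

theorem mem_QC_of_pr {h : X.HH} {j : ℕ} (hj : X.pr (h : Cen[z]) = β ^ j) : X.pC hB h ∈ X.QC hB := by
  obtain ⟨q, hq, e1⟩ := X.of_pr_pow hj
  have hbH : b ∈ X.HH := Subgroup.mem_centralizer_singleton_iff.mpr rfl
  let bH : X.HH := ⟨b, hbH⟩
  have hqH : q ∈ X.HH := by
    have : q = (((bH ^ j)⁻¹ * h : X.HH) : Cen[z]) := by
      rw [Subgroup.coe_mul, Subgroup.coe_inv, SubgroupClass.coe_pow, e1, inv_mul_cancel_left]
    rw [this]
    exact Subtype.coe_prop _
  refine (X.mem_QC hB).mpr ⟨⟨q, hqH⟩, hq, Subtype.ext ?_⟩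
  rw [pC_coe, pC_coe, show h = bH ^ j * ⟨q, hqH⟩ from Subtype.ext e1, map_mul,
    (X.pS_eq_one hB).mpr (show ((bH ^ j : X.HH) : Cen[z]) ∈ Subgroup.zpowers b by
      rw [SubgroupClass.coe_pow]; exact pow_mem (Subgroup.mem_zpowers b) j), one_mul]

theorem QC_le_ker : X.QC hB ≤ (X.thetaC hB).ker := by
  rintro _ ⟨q, hq, rfl⟩
  rw [MonoidHom.mem_ker, thetaC_pC]
  exact (congrArg phiBar (Subtype.ext (X.pr_eq_one.mpr hq) : (_ : CB) = 1)).trans (map_one _)

theorem centralizer_QC_le :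
    Subgroup.centralizer (X.QC hB : Set (Subgroup.centralizer ({X.zS hB} : Set (GN B)))) ≤ X.QC hB := by
  intro c hc
  obtain ⟨h, rfl⟩ := X.pC_surjective hB c
  have hfix : ∀ q ∈ X.Q0, h * q * h⁻¹ = q := fun q hq => by
    refine X.pC_injOn hB ((inferInstance : X.Q0.Normal).conj_mem q hq h) hq ?_
    rw [map_mul, map_mul, map_inv, ← Subgroup.mem_centralizer_iff.mp hc _
      ((X.mem_QC hB).mpr ⟨q, hq, rfl⟩), mul_inv_cancel_right]
  obtain ⟨g, hg⟩ := qCC_surjective ⟨X.pr (h : Cen[z]), X.pr_mem_CB h⟩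
  have hgb : Frame.bar (g : Co0) = X.pr (h : Cen[z]) := congrArg Subtype.val hg
  have hact : ∀ x, act (g : Co0) x = x := fun x => by
    obtain ⟨r, hr, hrx⟩ := X.coord_surjective x
    rw [← hrx, ← X.coord_conj h hgb hr, hfix r hr]
  obtain ⟨t, ht⟩ := phi_eq_one_iff.mp (phi_eq_one_of_act hact)
  have h0 := kerEl_act (t := t) fun x => ht ▸ hact x
  exact X.mem_QC_of_pr hB (j := t.2.2.val) (by rw [← hgb, ht, bar_kerEl, h0, pow_zero, one_mul])

/-- An element over the element without fixed points. -/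
noncomputable def w3 : Subgroup.centralizer ({X.zS hB} : Set (GN B)) :=
  X.pC hB (Classical.choose (X.exists_lift ω_mem))

theorem w3_spec : ∃ h : X.HH, X.pC hB h = X.w3 hB ∧ X.pr (h : Cen[z]) = ω :=
  ⟨_, rfl, Classical.choose_spec (X.exists_lift ω_mem)⟩

theorem w3_not_mem : X.w3 hB ∉ X.QC hB := by
  obtain ⟨h, hh, hp⟩ := X.w3_spec hB
  rw [← hh]
  intro hm
  obtain ⟨q, hq, e1⟩ := (X.mem_QC hB).mp hm
  have h1 : X.pS hB (q⁻¹ * h) = 1 := by
    rw [map_mul, map_inv]
    exact inv_mul_eq_one.mpr (congrArg Subtype.val e1)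
  obtain ⟨i, hi⟩ : ((q⁻¹ * h : X.HH) : Cen[z]) ∈ Submonoid.powers b := by
    rw [(orderOf_pos_iff.mp (by rw [X.orderOf_b]; norm_num) :
      IsOfFinOrder b).mem_powers_iff_mem_zpowers]
    exact (X.pS_eq_one hB).mp h1
  have h2 := congrArg X.pr hi
  simp only [Subgroup.coe_mul, Subgroup.coe_inv, map_mul, map_inv, map_pow, X.pr_b, hp] at h2
  have hq1 : X.pr (q : Cen[z]) = 1 := X.pr_eq_one.mpr hq
  rw [hq1, inv_one, one_mul] at h2
  exact om_not i h2.symm

/-- The kernel on the objects is covered by the powers of one element. -/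
theorem ker_cases {c : Subgroup.centralizer ({X.zS hB} : Set (GN B))}
    (hc : c ∈ (X.thetaC hB).ker) : ∃ k < 3, (X.w3 hB ^ k)⁻¹ * c ∈ X.QC hB := by
  obtain ⟨h, rfl⟩ := X.pC_surjective hB c
  rw [MonoidHom.mem_ker, thetaC_pC] at hc
  obtain ⟨k, hk, j, hj⟩ := X.theta_eq_one hc
  obtain ⟨h3, hh3, hp⟩ := X.w3_spec hB
  refine ⟨k, hk, ?_⟩
  rw [← hh3, ← map_pow, ← map_inv, ← map_mul]
  refine X.mem_QC_of_pr hB (j := j) ?_
  simp only [Subgroup.coe_mul, Subgroup.coe_inv, SubgroupClass.coe_pow, map_mul, map_inv, map_pow,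
    hj, hp, inv_mul_cancel_left]

theorem w3_cube : X.w3 hB ^ 3 ∈ X.QC hB := by
  obtain ⟨h, hh, hp⟩ := X.w3_spec hB
  rw [← hh, ← map_pow]
  obtain ⟨j, hj⟩ := omega_cube
  exact X.mem_QC_of_pr hB (j := j) (by rw [SubgroupClass.coe_pow, map_pow, hp, hj])

theorem mem_ker_w3 : X.w3 hB ∈ (X.thetaC hB).ker := by
  obtain ⟨h, hh, hp⟩ := X.w3_spec hB
  rw [← hh, MonoidHom.mem_ker, thetaC_pC]
  exact X.theta_of_ω hp

theorem map_ker : ((X.thetaC hB).ker).map (QuotientGroup.mk' (X.QC hB)) =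
    Subgroup.zpowers (QuotientGroup.mk' (X.QC hB) (X.w3 hB)) := by
  refine le_antisymm ?_ (Subgroup.zpowers_le.mpr (Subgroup.mem_map_of_mem _ (X.mem_ker_w3 hB)))
  rintro _ ⟨c, hc, rfl⟩
  obtain ⟨k, -, hk⟩ := X.ker_cases hB hc
  rw [Subgroup.mem_zpowers_iff]
  refine ⟨k, ?_⟩
  rw [zpow_natCast, ← map_pow]
  exact QuotientGroup.eq.mpr hk

theorem card_map_ker :
    Nat.card ((X.thetaC hB).ker.map (QuotientGroup.mk' (X.QC hB))) = 3 := by
  haveI : Fact (Nat.Prime 3) := ⟨Nat.prime_three⟩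
  rw [X.map_ker hB, Nat.card_zpowers]
  exact orderOf_eq_prime (by rw [← map_pow]; exact (QuotientGroup.eq_one_iff _).mpr (X.w3_cube hB))
    fun h => X.w3_not_mem hB ((QuotientGroup.eq_one_iff _).mp h)

theorem card_ker : Nat.card (X.thetaC hB).ker = 3 * Nat.card (X.QC hB) := by
  obtain ⟨f, hf⟩ : ∃ f, f = (QuotientGroup.mk' (X.QC hB)).comp (X.thetaC hB).ker.subtype := ⟨_, rfl⟩
  have h1 := f.ker.card_mul_index
  rw [Subgroup.index_ker] at h1
  have hr : f.range = (X.thetaC hB).ker.map (QuotientGroup.mk' (X.QC hB)) := by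
    rw [hf, MonoidHom.range_comp, Subgroup.range_subtype]
  have hk : Nat.card f.ker = Nat.card (X.QC hB) := by
    rw [hf, ← MonoidHom.comap_ker, QuotientGroup.ker_mk']
    exact Nat.card_congr (Subgroup.subgroupOfEquivOfLe (X.QC_le_ker hB)).toEquiv
  rw [hr, X.card_map_ker hB, hk] at h1
  rw [← h1, mul_comm]

theorem pCore_eq :
    pCore 2 (Subgroup.centralizer ({X.zS hB} : Set (GN B))) = X.QC hB := by
  haveI : Fact (Nat.Prime 2) := ⟨Nat.prime_two⟩
  refine le_antisymm ?_ (le_sSup ⟨inferInstance,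
    IsPGroup.of_card (n := 13) (by rw [← Nat.card_congr (X.isoQC hB).toEquiv, X.card_Q0])⟩)
  let f := (X.thetaC hB).codRestrict objGrp fun c => by
    rw [← X.range_thetaC hB]; exact ⟨c, rfl⟩
  have hf : Function.Surjective f := fun y => by
    obtain ⟨c, hc⟩ : y.1 ∈ (X.thetaC hB).range := by rw [X.range_thetaC hB]; exact y.2
    exact ⟨c, Subtype.ext hc⟩
  obtain ⟨P, hP⟩ : ∃ P, P = pCore 2 (Subgroup.centralizer ({X.zS hB} : Set (GN B))) := ⟨_, rfl⟩
  have hPn : P.Normal := by rw [hP]; infer_instance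
  have hPp : IsPGroup 2 P := by rw [hP]; exact Cores.pCore_isPGroup 2
  have h := no_normal_two _ (Subgroup.Normal.map hPn _ hf) (hPp.map f)
  rw [Subgroup.map_eq_bot_iff] at h
  have hk : P ≤ (X.thetaC hB).ker := fun c hc =>
    MonoidHom.mem_ker.mpr (congrArg Subtype.val (MonoidHom.mem_ker.mp (h hc)))
  rw [← hP]
  have hdvd := Subgroup.card_dvd_of_le (Subgroup.map_mono (f := QuotientGroup.mk' (X.QC hB)) hk)
  rw [X.card_map_ker hB] at hdvd
  obtain ⟨n, hn⟩ := IsPGroup.iff_card.mp (hPp.map (QuotientGroup.mk' (X.QC hB)))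
  rw [hn] at hdvd
  have h1 : P.map (QuotientGroup.mk' (X.QC hB)) = ⊥ := by
    rw [← Subgroup.card_eq_one, hn]
    rcases n with _ | n
    · rfl
    · exfalso
      have : (2 : ℕ) ∣ 3 := (dvd_pow_self 2 (Nat.succ_ne_zero n)).trans hdvd
      omega
  rwa [Subgroup.map_eq_bot_iff, QuotientGroup.ker_mk'] at h1

include X hB in
/-- The centraliser modulo the subgroup of order three is of large Fischer type. -/
theorem fischer_type : IsOfLargeFischerType (GN B) := by
  haveI : Fact (Nat.Prime 2) := ⟨Nat.prime_two⟩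
  let T := X.thetaC hB
  haveI : (halfGrp.subgroupOf objGrp).Normal := Subgroup.normal_of_index_eq_two half_index
  let f : Subgroup.centralizer ({X.zS hB} : Set (GN B)) →* objGrp :=
    T.codRestrict objGrp fun c => by rw [← X.range_thetaC hB]; exact ⟨c, rfl⟩
  have hf : Function.Surjective f := fun y => by
    obtain ⟨c, hc⟩ : y.1 ∈ T.range := by rw [X.range_thetaC hB]; exact y.2
    exact ⟨c, Subtype.ext hc⟩
  have hker : f.ker = T.ker := by
    ext c
    exact ⟨fun h => congrArg Subtype.val (MonoidHom.mem_ker.mp h), fun h => Subtype.ext h⟩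
  refine ⟨X.zS hB, X.QC hB, inferInstance, ⟨X.zS_order hB, ?_, ?_, ?_, ?_⟩,
    T.ker, (halfGrp.subgroupOf objGrp).comap f, inferInstance, inferInstance, X.QC_le_ker hB,
    hker ▸ Subgroup.ker_le_comap f _, X.card_ker hB, ?_, ?_⟩
  · have h := (Balance.centralizer_pCore_le_iff (p := 2)).mp (by
      rw [X.pCore_eq hB]; exact X.centralizer_QC_le hB)
    rwa [X.pCore_eq hB] at h
  · exact FusionP3.GenExtra.isExtraspecial_congr (X.isoQC hB) X.extraspecial_Q0
  · rw [← Nat.card_congr (X.isoQC hB).toEquiv, X.card_Q0]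
  · obtain ⟨q, hq, hqz, hconj, hne⟩ := X.exists_other
    obtain ⟨g, hg, hgz⟩ := X.exists_conj_z hq hne hconj
    obtain ⟨c, hc⟩ : ∃ c : GN B, c * X.zS hB * c⁻¹ = (X.pC hB q : GN B) :=
      ⟨QuotientGroup.mk ⟨g, (mem_CB hB).mpr hg⟩,
        congrArg QuotientGroup.mk (Subtype.ext hgz : (⟨g, (mem_CB hB).mpr hg⟩ *
          X.toCB hB X.zh * ⟨g, (mem_CB hB).mpr hg⟩⁻¹ : Subgroup.centralizer (B : Set G)) =
            X.toCB hB q)⟩
    refine ⟨c, ⟨hc ▸ (X.pC hB q).2, ?_⟩, ?_⟩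
    · rw [show (⟨c * X.zS hB * c⁻¹, hc ▸ (X.pC hB q).2⟩ :
        Subgroup.centralizer ({X.zS hB} : Set (GN B))) = X.pC hB q from Subtype.ext hc]
      exact (X.mem_QC hB).mpr ⟨q, hq, rfl⟩
    · rw [hc]
      exact fun h => hqz (X.pS_injOn hB hq X.zh_mem h)
  · obtain ⟨e1⟩ := half_equiv
    let M := (halfGrp.subgroupOf objGrp).comap f
    let g : M →* halfGrp := (((Subgroup.subgroupOfEquivOfLe halfGrp_le).toMonoidHom).comp
      (f.subgroupComap (halfGrp.subgroupOf objGrp)))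
    have hg : Function.Surjective g :=
      (Subgroup.subgroupOfEquivOfLe halfGrp_le).surjective.comp
        (f.subgroupComap_surjective_of_surjective _ hf)
    have hgk : g.ker = T.ker.subgroupOf M := by
      ext c
      rw [MonoidHom.mem_ker, Subgroup.mem_subgroupOf, MonoidHom.mem_ker]
      constructor
      · intro h
        exact congrArg Subtype.val h
      · intro h
        exact Subtype.ext h
    exact ⟨Cfsg.Agent.Lib.U33.K9, inferInstance, inferInstance,
      LatticeUnitary.U4.card_k9', ⟨((QuotientGroup.quotientMulEquivOfEq hgk.symm).trans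
        (QuotientGroup.quotientKerEquivOfSurjective g hg)).trans e1⟩⟩
  · rw [Subgroup.index_comap_of_surjective _ hf, half_index]

end Ctx

end Cfsg.Agent.Lib.MonsterFischer52.Model
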