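import Cfsg.Agent.Lib.MonsterFischer52.Fixed

/-!
The cube of the element without fixed points is a power of the permutation modulo the sign.

Owner: helper52.
-/

set_option autoImplicit false
set_option maxRecDepth 20000

namespace Cfsg.Agent.Lib.MonsterFischer52.Model

open Cfsg Cfsg.Agent.Lib.Leech
open Cfsg.Agent.Lib.LeechMod2

theorem omega_cube : ∃ j : ℕ, ω ^ 3 = β ^ j := by
  obtain ⟨t, ht⟩ := phi_eq_one_iff.mp (show phi (⟨om, SS_le om_mem⟩ ^ 3 : CC) = 1 by
    rw [map_pow, phi_eq_one_iff.mpr ⟨(1, 0, 0), by simp [kerEl]⟩, one_pow])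
  rw [SubgroupClass.coe_pow] at ht
  refine ⟨t.2.2.val, ?_⟩
  have hb : ω ^ 3 = ω ^ t.1.val * β ^ t.2.2.val := by
    rw [← bar_kerEl, ← ht, map_pow]; rfl
  rw [hb]
  rcases Nat.eq_zero_or_pos t.1.val with h0 | h0
  · rw [h0, pow_zero, one_mul]
  · exfalso
    obtain ⟨x, hx⟩ := om_pow_moves (k := 3 - t.1.val) (by omega)
    apply hx
    have h1 : om ^ (3 - t.1.val) = negOne ^ t.2.1.val * π0 ^ t.2.2.val := by
      have h2 : om ^ t.1.val * om ^ (3 - t.1.val) =
          om ^ t.1.val * (negOne ^ t.2.1.val * π0 ^ t.2.2.val) := by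
        rw [← pow_add, Nat.add_sub_cancel' (by omega), ← mul_assoc]; exact ht
      exact mul_left_cancel h2
    rw [h1]
    exact act_scalar _ _ x

end Cfsg.Agent.Lib.MonsterFischer52.Model
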