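import Cfsg.Agent.Lib.MonsterFischer52.Line

/-!
The centraliser of the image of the permutation modulo the sign, acting on the objects.

Owner: helper52.
-/

set_option autoImplicit false
set_option maxRecDepth 20000

namespace Cfsg.Agent.Lib.MonsterFischer52.Model

open Cfsg Cfsg.Agent.Lib.Leech Cfsg.Agent.Lib.Golay
open Cfsg.Agent.Lib.LeechMod2

/-- The image of the permutation. -/
noncomputable def β : Spor.Co1 := Frame.bar π0

/-- The image of the element without fixed points. -/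
noncomputable def ω : Spor.Co1 := Frame.bar om

/-- The centraliser of the image. -/
noncomputable def CB : Subgroup Spor.Co1 := Subgroup.centralizer {β}

theorem β_ne_one : β ≠ 1 := fun h => by
  rcases center_co0_eq (Frame.bar_eq_one.mp h) with e | e
  · exact π0_ne_one e
  · have h3 := π0_pow_three
    rw [e, pow_succ, pow_two, negOne_sq, one_mul] at h3
    exact negOne_ne_one h3

theorem β_pow : β ^ 3 = 1 := by rw [β, ← map_pow, π0_pow_three, map_one]

theorem bar_kerEl (t : Fin 3 × Fin 2 × Fin 3) :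
    Frame.bar (kerEl t) = ω ^ t.1.val * β ^ t.2.2.val := by
  rw [kerEl, map_mul, map_mul, map_pow, map_pow, map_pow,
    Frame.bar_eq_one.mpr negOne_mem_center, one_pow, mul_one]
  rfl

/-- An element commuting with the image commutes with the permutation. -/
theorem mem_CC_of_bar {g : Co0} (h : Frame.bar g ∈ CB) : g ∈ CC := by
  rw [CB, Subgroup.mem_centralizer_singleton_iff] at h
  obtain ⟨p₀, hp₀⟩ : ∃ x, x = π0 := ⟨_, rfl⟩
  have hb : Frame.bar p₀ = β := by rw [hp₀]; rfl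
  have hc : g * p₀ * g⁻¹ * p₀⁻¹ ∈ Subgroup.center Co0 := by
    rw [← Frame.bar_eq_one, map_mul, map_mul, map_mul, map_inv, map_inv, hb, h]
    group
  refine (LatData.mem_CC lat_ok).mpr ?_
  show g * π0 = π0 * g
  rw [← hp₀]
  rcases center_co0_eq hc with e | e
  · rw [mul_inv_eq_one, mul_inv_eq_iff_eq_mul] at e
    exact e
  · exfalso
    have e1 : g * p₀ * g⁻¹ = negOne * p₀ := by rw [← e]; group
    have e2 := congrArg (fun y : Co0 => y ^ 3) e1
    have hp : p₀ ^ 3 = 1 := by rw [hp₀]; exact π0_pow_three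
    simp only [conj_pow, hp, mul_one, mul_inv_cancel] at e2
    rw [Commute.mul_pow (show Commute negOne p₀ from
      (Subgroup.mem_center_iff.mp negOne_mem_center p₀).symm), hp, mul_one, pow_succ, pow_two,
      negOne_sq, one_mul] at e2
    exact negOne_ne_one e2.symm

/-- Reduction on the centraliser. -/
noncomputable def qCC : CC →* CB :=
  (Frame.bar.comp CC.subtype).codRestrict CB fun g =>
    Subgroup.mem_centralizer_singleton_iff.mpr (by
      show Frame.bar (g : Co0) * Frame.bar π0 = Frame.bar π0 * Frame.bar (g : Co0)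
      rw [← map_mul, ← map_mul, show (g : Co0) * π0 = π0 * g from (LatData.mem_CC lat_ok).mp g.2])

theorem qCC_surjective : Function.Surjective qCC := by
  rintro ⟨x, hx⟩
  obtain ⟨g, rfl⟩ := Frame.bar_surjective x
  exact ⟨⟨g, mem_CC_of_bar hx⟩, rfl⟩

theorem ker_qCC_le : qCC.ker ≤ phi.ker := by
  intro g hg
  have h : Frame.bar (g : Co0) = 1 := congrArg Subtype.val (MonoidHom.mem_ker.mp hg)
  rw [MonoidHom.mem_ker, phi_eq_one_iff]
  rcases center_co0_eq (Frame.bar_eq_one.mp h) with e | e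
  · exact ⟨(0, 0, 0), by simp [kerEl, e]⟩
  · exact ⟨(0, 1, 0), by simp [kerEl, e]⟩

/-- The action modulo the sign. -/
noncomputable def phiBar : CB →* Equiv.Perm (Fin 126) :=
  qCC.liftOfSurjective qCC_surjective ⟨phi, ker_qCC_le⟩

theorem phiBar_qCC (g : CC) : phiBar (qCC g) = phi g :=
  MonoidHom.liftOfRightInverse_comp_apply _ _ _ _ g

theorem range_phiBar : phiBar.range = objGrp := by
  rw [← range_phi]
  ext f
  constructor
  · rintro ⟨c, rfl⟩
    obtain ⟨g, rfl⟩ := qCC_surjective c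
    exact ⟨g, (phiBar_qCC g).symm⟩
  · rintro ⟨g, rfl⟩
    exact ⟨qCC g, phiBar_qCC g⟩

theorem ω_mem : ω ∈ CB := (qCC ⟨om, SS_le om_mem⟩).2

theorem phiBar_eq_one {c : CB} (h : phiBar c = 1) :
    ∃ k < 3, ∃ j : ℕ, (c : Spor.Co1) = ω ^ k * β ^ j := by
  obtain ⟨g, rfl⟩ := qCC_surjective c
  rw [phiBar_qCC, phi_eq_one_iff] at h
  obtain ⟨t, ht⟩ := h
  refine ⟨_, t.1.isLt, t.2.2.val, ?_⟩
  show Frame.bar (g : Co0) = _
  rw [ht, bar_kerEl]

theorem phiBar_ω : phiBar ⟨ω, ω_mem⟩ = 1 :=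
  (phiBar_qCC ⟨om, SS_le om_mem⟩).trans (phi_eq_one_iff.mpr ⟨(1, 0, 0), by simp [kerEl]⟩)

theorem phiBar_β : ∀ h : β ∈ CB, phiBar ⟨β, h⟩ = 1 := fun _ =>
  (phiBar_qCC ⟨π0, LatData.π_mem lat_ok⟩).trans (phi_eq_one_iff.mpr ⟨(0, 0, 1), by simp [kerEl]⟩)

theorem om_not (j : ℕ) : ω ≠ β ^ j := by
  intro h
  have hc : om * (π0 ^ j)⁻¹ ∈ Subgroup.center Co0 := by
    rw [← Frame.bar_eq_one, map_mul, map_inv, map_pow]
    show ω * (β ^ j)⁻¹ = 1
    rw [h, mul_inv_cancel]
  obtain ⟨x, hx⟩ := om_pow_moves (k := 1) (Or.inl rfl)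
  apply hx
  rw [pow_one]
  obtain ⟨e, he⟩ : ∃ e : ℕ, om * (π0 ^ j)⁻¹ = negOne ^ e := by
    rcases center_co0_eq hc with e | e
    · exact ⟨0, by rw [e, pow_zero]⟩
    · exact ⟨1, by rw [e, pow_one]⟩
  rw [mul_inv_eq_iff_eq_mul] at he
  rw [he]
  exact act_scalar e j x

end Cfsg.Agent.Lib.MonsterFischer52.Model
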