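import Cfsg.Agent.Lib.MonsterFischer52.Main
import Cfsg.Agent.Lib.MonsterLocal52.Setup
import Cfsg.Agent.Lib.M24Classes.Classes

/-!
Monster type: the centraliser of an element of order 3 that is 3-central in the centraliser of two
commuting conjugates, modulo that element, is of large Fischer type.

Owner: helper52.
-/

set_option autoImplicit false
set_option maxRecDepth 20000
set_option linter.style.haveILetI false

namespace Cfsg.Agent.Lib.MonsterFischer52

open Cfsg Cfsg.Agent.Lib.Leech Cfsg.Agent.Lib.Golay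
open Cfsg.Agent.Lib.LeechMod2
open Cfsg.Agent.Lib.M24Classes
open Cfsg.Agent.Lib.MonsterLocal52 (exists_standard conj_permBar card_crossBar pr_ne_one retwist)

local notation "Cen[" z "]" => Subgroup.centralizer ({z} : Set _)

/-- A permutation over a central element centralises a subgroup of order 27 of the code group. -/
theorem not_central_of_zero {C2 : Type*} [Group C2] [Finite C2] (f : C2 →* Spor.Co1)
    (hrange : f.range = crossGroup.map Frame.bar) (hker : IsPGroup 2 f.ker) {y : C2}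
    {σ : M24} (hσ : (σ : Equiv.Perm GolayPt) = gperm M24Classes.Data.r0)
    {c : Spor.Co1} (hcmem : c ∈ crossGroup.map Frame.bar)
    (hc : c * f y * c⁻¹ = Frame.permBar σ) (P : Sylow 3 C2)
    (hy : y ∈ (Subgroup.center ↥(P : Subgroup C2)).map (P : Subgroup C2).subtype) : False := by
  haveI : Fact (Nat.Prime 3) := ⟨Nat.prime_three⟩
  obtain ⟨n, hn⟩ := IsPGroup.iff_card.mp hker
  have hcop : ¬ 3 ∣ Nat.card f.ker := by
    rw [hn]
    intro h
    have := Nat.prime_three.dvd_of_dvd_pow h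
    omega
  have hP27 : Nat.card (P : Subgroup C2) = 27 := by
    rw [P.card_eq_multiplicity]
    have h := Subgroup.card_mul_index f.ker
    rw [Subgroup.index_ker, hrange, card_crossBar] at h
    rw [← h, Nat.factorization_mul Nat.card_pos.ne' (by norm_num), Finsupp.add_apply,
      Nat.factorization_eq_zero_of_not_dvd hcop,
      show (501397585920 : ℕ) = 3 ^ 3 * 18570280960 by norm_num,
      Nat.factorization_mul (by norm_num) (by norm_num), Finsupp.add_apply,
      Nat.Prime.factorization_pow Nat.prime_three, Finsupp.single_eq_same,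
      Nat.factorization_eq_zero_of_not_dvd (by norm_num : ¬ 3 ∣ 18570280960), zero_add, add_zero]
    norm_num
  have hcomm : ∀ g ∈ (P : Subgroup C2), g * y = y * g := by
    obtain ⟨w, hw, rfl⟩ := Subgroup.mem_map.mp hy
    intro g hg
    exact congrArg Subtype.val (Subgroup.mem_center_iff.mp hw ⟨g, hg⟩)
  have hcs : ∀ g : (P : Subgroup C2), ∃ τ : Centralizers.cent (gperm M24Classes.Data.r0),
      ∃ d ∈ Frame.diagBar,
        c * f (g : C2) * c⁻¹ = d * Frame.permBar ⟨τ.1, (Centralizers.mem_cent.mp τ.2).1⟩ := by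
    intro g
    have hmem : c * f (g : C2) * c⁻¹ ∈ crossGroup.map Frame.bar :=
      mul_mem (mul_mem hcmem (hrange ▸ ⟨_, rfl⟩)) (inv_mem hcmem)
    obtain ⟨γ, hγ, hγe⟩ := hmem
    obtain ⟨d, hd, τ, rfl⟩ := Frame.exists_split hγ
    have hcg : c * f (g : C2) * c⁻¹ * Frame.permBar σ = Frame.permBar σ * (c * f (g : C2) * c⁻¹) := by
      rw [← hc]
      calc c * f (g : C2) * c⁻¹ * (c * f y * c⁻¹) = c * f ((g : C2) * y) * c⁻¹ := by
            rw [map_mul]; group
        _ = c * f (y * (g : C2)) * c⁻¹ := by rw [hcomm g g.2]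
        _ = _ := by rw [map_mul]; group
    rw [← hγe, map_mul] at hcg
    obtain ⟨db, hdb⟩ : ∃ db, db = Frame.bar d := ⟨_, rfl⟩
    obtain ⟨sb, hsb⟩ : ∃ sb, sb = Frame.permBar σ := ⟨_, rfl⟩
    rw [← hdb, ← hsb, show Frame.bar (permHom τ) = Frame.permBar τ from rfl] at hcg
    have hmem2 : Frame.permBar (τ * σ * τ⁻¹ * σ⁻¹) ∈ Frame.diagBar := by
      have e : Frame.permBar (τ * σ * τ⁻¹ * σ⁻¹) = db⁻¹ * (sb * db * sb⁻¹) := by
        rw [map_mul, map_mul, map_mul, map_inv, map_inv, ← hsb]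
        calc Frame.permBar τ * sb * (Frame.permBar τ)⁻¹ * sb⁻¹
            = db⁻¹ * (db * Frame.permBar τ * sb) * (Frame.permBar τ)⁻¹ * sb⁻¹ := by group
          _ = db⁻¹ * (sb * (db * Frame.permBar τ)) * (Frame.permBar τ)⁻¹ * sb⁻¹ := by rw [hcg]
          _ = _ := by group
      rw [e, hdb, hsb]
      refine mul_mem (inv_mem ⟨d, hd, rfl⟩) ⟨permHom σ * d * (permHom σ)⁻¹,
        Frame.cross_conj_diag (Frame.permHom_mem_cross σ) hd, ?_⟩
      rw [map_mul, map_mul, map_inv]
      rfl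
    have h1 := Frame.eq_one_of_permBar_mem hmem2
    rw [mul_inv_eq_one, mul_inv_eq_iff_eq_mul] at h1
    refine ⟨⟨τ, Centralizers.mem_cent.mpr ⟨τ.2, ?_⟩⟩, Frame.bar d, ⟨d, hd, rfl⟩, ?_⟩
    · have := congrArg Subtype.val h1
      rwa [Subgroup.coe_mul, Subgroup.coe_mul, hσ] at this
    · rw [← hγe, map_mul]
      rfl
  choose τ d hd hτ using hcs
  have hconjd : ∀ (t : M24) {x : Spor.Co1}, x ∈ Frame.diagBar →
      Frame.permBar t * x * (Frame.permBar t)⁻¹ ∈ Frame.diagBar := by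
    rintro t x ⟨e, he, rfl⟩
    refine ⟨permHom t * e * (permHom t)⁻¹, Frame.cross_conj_diag (Frame.permHom_mem_cross t) he, ?_⟩
    rw [map_mul, map_mul, map_inv]
    rfl
  let t : ↥(P : Subgroup C2) → M24 := fun g => ⟨(τ g).1, (Centralizers.mem_cent.mp (τ g).2).1⟩
  have hτ' : ∀ g : ↥(P : Subgroup C2), c * f (g : C2) * c⁻¹ = d g * Frame.permBar (t g) := hτ
  have huniq : ∀ (a : M24) (g : (P : Subgroup C2)) {x : Spor.Co1}, x ∈ Frame.diagBar →
      c * f (g : C2) * c⁻¹ = x * Frame.permBar a → t g = a := by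
    intro a g x hx e
    have e1 : Frame.permBar (t g * a⁻¹) = (d g)⁻¹ * x := by
      rw [hτ' g] at e
      rw [map_mul, map_inv]
      calc Frame.permBar (t g) * (Frame.permBar a)⁻¹
          = (d g)⁻¹ * (d g * Frame.permBar (t g)) * (Frame.permBar a)⁻¹ := by group
        _ = (d g)⁻¹ * (x * Frame.permBar a) * (Frame.permBar a)⁻¹ := by rw [e]
        _ = _ := by group
    exact mul_inv_eq_one.mp (Frame.eq_one_of_permBar_mem (e1 ▸ mul_mem (inv_mem (hd g)) hx))
  let F : ↥(P : Subgroup C2) →* Centralizers.cent (gperm M24Classes.Data.r0) :=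
    MonoidHom.mk' τ fun g k => by
      have h := huniq (t g * t k) (g * k)
        (mul_mem (hd g) (hconjd (t g) (hd k))) (by
          rw [Subgroup.coe_mul, map_mul, show c * (f (g : C2) * f (k : C2)) * c⁻¹ =
            (c * f (g : C2) * c⁻¹) * (c * f (k : C2) * c⁻¹) by group, hτ' g, hτ' k, map_mul]
          group)
      exact Subtype.ext (congrArg Subtype.val h :)
  have hinj : Function.Injective F := by
    rw [injective_iff_map_eq_one]
    intro g hg
    have hτ1 : τ g = 1 := hg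
    have ht : t g = 1 := Subtype.ext
      ((congrArg Subtype.val hτ1 : ((τ g : Centralizers.cent (gperm M24Classes.Data.r0)) :
        Equiv.Perm GolayPt) = 1))
    have h1 := hτ' g
    rw [ht, map_one, mul_one] at h1
    have h2 : (c * f (g : C2) * c⁻¹) ^ 2 = 1 := by
      rw [h1, pow_two]; exact Frame.diagBar_elem (hd g)
    rw [conj_pow, conj_eq_one_iff, ← map_pow] at h2
    have h27 : (g : C2) ^ 27 = 1 := by
      have := pow_card_eq_one' (x := g)
      rw [hP27] at this
      rw [← SubgroupClass.coe_pow, this, OneMemClass.coe_one]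
    have h3 : f (g : C2) = 1 := by
      have h := pow_gcd_eq_one.mpr ⟨(map_pow f _ 2).symm.trans h2,
        (map_pow f _ 27).symm.trans (by rw [h27, map_one])⟩
      rwa [(by norm_num : Nat.gcd 2 27 = 1), pow_one] at h
    have h4 : (⟨g, h3⟩ : f.ker) ^ Nat.card f.ker = 1 := pow_card_eq_one'
    rw [hn] at h4
    have h5 := pow_gcd_eq_one.mpr ⟨congrArg Subtype.val h4, h27⟩
    have hg2 : Nat.gcd (2 ^ n) 27 = 1 := Nat.Coprime.pow_left _ (by norm_num)
    simp only [hg2, pow_one] at h5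
    exact Subtype.ext h5
  have h27 := Subgroup.card_dvd_of_injective F hinj
  rw [hP27, Centralizers.card_cent0] at h27
  norm_num at h27

variable {G : Type*} [Group G] [Finite G] {z : G} {Q : Subgroup (Subgroup.centralizer ({z} : Set G))}
  [Q.Normal]

/-- The centraliser modulo the subgroup of order 3 is of large Fischer type. -/
theorem fischer_of_monster (hM : IsOfMonsterType z Q) (s : G)
    (hsQ : ∃ hsc : s ∈ Cen[z], (⟨s, hsc⟩ : Cen[z]) ∈ Q) (hs : IsConj z s) (hs1 : s ≠ z)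
    (Y : Subgroup G) (hY : Y ≤ Subgroup.centralizer ({z, s} : Set G)) (hY3 : Nat.card Y = 3)
    (hcen : ∃ P : Sylow 3 ↥(Subgroup.centralizer ({z, s} : Set G)),
      Y.subgroupOf (Subgroup.centralizer ({z, s} : Set G)) ≤
        (Subgroup.center ↥(P : Subgroup ↥(Subgroup.centralizer ({z, s} : Set G)))).map
          (P : Subgroup ↥(Subgroup.centralizer ({z, s} : Set G))).subtype)
    [hn : (Y.subgroupOf (Subgroup.centralizer (Y : Set G))).Normal] :
    IsOfLargeFischerType (↥(Subgroup.centralizer (Y : Set G)) ⧸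
      Y.subgroupOf (Subgroup.centralizer (Y : Set G))) := by
  haveI : Fact (Nat.Prime 3) := ⟨Nat.prime_three⟩
  obtain ⟨hS, e, ψ, hle, hψ, hrange, hker⟩ := exists_standard hM hsQ hs hs1
  obtain ⟨⟨y0, hy0Y⟩, hy0⟩ := exists_prime_orderOf_dvd_card' (G := Y) 3 (by rw [hY3])
  rw [Subgroup.orderOf_mk] at hy0
  have hYz : Y = Subgroup.zpowers y0 :=
    (Subgroup.eq_of_le_of_card_ge (Subgroup.zpowers_le.mpr hy0Y)
      (by rw [hY3, Nat.card_zpowers, hy0])).symm
  let y : Subgroup.centralizer ({z, s} : Set G) := ⟨y0, hY hy0Y⟩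
  let b : Cen[z] := Subgroup.inclusion hle y
  have hb3 : b ^ 3 = 1 := Subtype.ext (by
    show y0 ^ 3 = 1
    rw [← hy0]; exact pow_orderOf_eq_one y0)
  have hb1 : b ≠ 1 := fun h => by
    have h' : y0 = 1 := congrArg Subtype.val h
    rw [h', orderOf_one] at hy0
    norm_num at hy0
  obtain ⟨f, hf⟩ : ∃ f, f =
    (e.toMonoidHom.comp (QuotientGroup.mk' Q)).comp (Subgroup.inclusion hle) := ⟨_, rfl⟩
  rw [← hf] at hrange hker
  have hfy : f y = e (QuotientGroup.mk b) := by rw [hf]; rfl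
  have hxo : orderOf (f y) = 3 := by
    rw [hfy]; exact pr_ne_one Nat.prime_three (by norm_num) hS e hb3 hb1
  have hxX : f y ∈ crossGroup.map Frame.bar := by rw [← hrange]; exact ⟨y, rfl⟩
  obtain ⟨σ, hσo, c, hcmem, hc⟩ := conj_permBar Nat.prime_three (by norm_num) hxX hxo
  have hσ1 : (σ : Equiv.Perm GolayPt) ≠ 1 := fun h => by
    rw [show σ = 1 from Subtype.ext h, orderOf_one] at hσo
    norm_num at hσo
  have hσ3 : (σ : Equiv.Perm GolayPt) * σ * σ = 1 := by
    have h : σ ^ 3 = 1 := hσo ▸ pow_orderOf_eq_one σ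
    rw [pow_succ, pow_two] at h
    exact congrArg Subtype.val h
  obtain ⟨m, hm, hcase⟩ := Classes.three_conj σ.2 hσ1 hσ3
  have hmove : ∀ r : M24, (σ : Equiv.Perm GolayPt) = m * r * m⁻¹ →
      Frame.permBar (⟨m, hm⟩⁻¹ : M24) * c ∈ crossGroup.map Frame.bar ∧
      Frame.permBar (⟨m, hm⟩⁻¹ : M24) * c * f y *
        (Frame.permBar (⟨m, hm⟩⁻¹ : M24) * c)⁻¹ = Frame.permBar r := by
    intro r hr
    obtain ⟨μ, hμ⟩ : ∃ μ : M24, μ = ⟨m, hm⟩ := ⟨_, rfl⟩
    have hσ : σ = μ * r * μ⁻¹ := Subtype.ext (by rw [hμ]; exact hr)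
    rw [← hμ]
    refine ⟨mul_mem ⟨_, Frame.permHom_mem_cross μ⁻¹, rfl⟩ hcmem, ?_⟩
    calc Frame.permBar μ⁻¹ * c * f y * (Frame.permBar μ⁻¹ * c)⁻¹
        = Frame.permBar μ⁻¹ * (c * f y * c⁻¹) * (Frame.permBar μ⁻¹)⁻¹ := by group
      _ = _ := by rw [hc, hσ, ← map_inv, ← map_mul, ← map_mul]; congr 1; group
  rcases hcase with h6 | h0
  · obtain ⟨-, hconj⟩ := hmove (LatData.σ Model.lat_ok) h6
    rw [hfy] at hconj
    obtain ⟨γ, hγ⟩ := Frame.bar_surjective (Frame.permBar (⟨m, hm⟩⁻¹ : M24) * c)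
    rw [← hγ] at hconj
    have X : Model.Ctx z Q (e.trans (MulAut.conj (Frame.bar γ⁻¹)⁻¹)) (fun w => ψ (γ⁻¹ • w)) b := by
      refine ⟨hS, retwist hψ γ⁻¹, hb3, ?_⟩
      show MulAut.conj (Frame.bar γ⁻¹)⁻¹ (e (QuotientGroup.mk b)) = Model.β
      rw [map_inv Frame.bar, inv_inv, MulAut.conj_apply]
      exact hconj
    exact X.fischer_type (B := Y) hYz
  · exfalso
    have hr0 : inM24 M24Classes.Data.r0 = true := by decide +kernel
    obtain ⟨hmem, hconj⟩ := hmove ⟨gperm M24Classes.Data.r0, gperm_mem_M24 hr0⟩ h0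
    obtain ⟨P, hP⟩ := hcen
    exact not_central_of_zero f hrange hker rfl hmem hconj P (hP hy0Y)

end Cfsg.Agent.Lib.MonsterFischer52
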